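import Groth.Agent.KSix54.TensorPC.Chart
import Groth.Agent.KSix54.Rel.Perfect
import Groth.Agent.KSix54.Pull.Scheme
import Groth.Agent.KFlatLib.Scheme.LpullLE
import Groth.Agent.Perf52.LTensorBound

/-! Perfect amplitude of `E ⊗^L Lf^*F`. -/

set_option linter.style.haveILetI false
set_option backward.isDefEq.respectTransparency false

universe u

open CategoryTheory CategoryTheory.Limits AlgebraicGeometry

attribute [local instance] HasDerivedCategory.standard

namespace Groth.Agent.KSix54.TensorPC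

open Groth.Agent.KFlatLib

variable {X Y Z : Scheme.{u}} (f : X ⟶ Y) (g : Y ⟶ Z)

/-- The bound on `E ⊗^L Lf^*F`. -/
lemma isLE_tensor_lpull {b d : ℤ} (E : CochainComplex X.Modules ℤ) [hEb : (DCoh.toD X E).IsLE b]
    (F : DCoh.D Y) [hFd : F.IsLE d] [DCoh.HasLpull f] [DCoh.HasLTensorCx E] :
    ((DCoh.LTensorCx E).obj ((DCoh.Lpull f).obj F)).IsLE (b + d) :=
  Perf52.isLE_ltensorCx E hEb (isLE_lpull f F d)

variable [LocallyOfFiniteType f] [LocallyOfFiniteType g]

/-- Perfect amplitude of `E ⊗^L Lf^*F`. -/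
theorem perfAmplitudeRel_tensor {a b c d : ℤ} {E : CochainComplex X.Modules ℤ}
    (hE : DerSch.HasPerfAmplitudeRel f a b E) {F : CochainComplex Y.Modules ℤ}
    (hF : DerSch.HasPerfAmplitudeRel g c d F) [DCoh.HasLpull f] [DCoh.HasLTensorCx E]
    {K : CochainComplex X.Modules ℤ}
    (e : DCoh.toD X K ≅ (DCoh.LTensorCx E).obj ((DCoh.Lpull f).obj (DCoh.toD Y F))) :
    DerSch.HasPerfAmplitudeRel (f ≫ g) (a + c) (b + d) K := by
  haveI : (DCoh.toD X E).IsLE b := (DerivedCategory.isLE_iff _ _).2 fun j hj =>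
    isZero_HD_of_torAmplitude hE.2 j (Or.inr hj)
  haveI : (DCoh.toD Y F).IsLE d := (DerivedCategory.isLE_iff _ _).2 fun j hj =>
    isZero_HD_of_torAmplitude hF.2 j (Or.inr hj)
  refine ⟨fun m => isPseudoCoherentRel_of_iso e.symm (isPseudoCoherentRel_mono (max_le ?_ ?_)
      (isPseudoCoherentRel_tensor f g E (b := b) (d := d) (hE.1 (m - d)) _ (hF.1 (m - b)))),
    Pull.torAmplitudeD_tensor_lpull f g hE.2 hF.2 K ⟨e⟩⟩ <;> omega

end Groth.Agent.KSix54.TensorPC
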