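import Groth.Agent.KSix54.TensorPC.PolyBC
import Groth.Agent.KSix54.Rel.Compose

/-! Relative pseudo-coherence of `E ⊗^L Lf^*F` along a composite. -/

set_option linter.style.haveILetI false
set_option backward.isDefEq.respectTransparency false

universe u

open CategoryTheory CategoryTheory.Limits AlgebraicGeometry

attribute [local instance] HasDerivedCategory.standard

namespace Groth.Agent.KSix54.TensorPC

open Groth.Agent.KFlatLib

variable {X Y Z : Scheme.{u}} (f : X ⟶ Y) (g : Y ⟶ Z)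

lemma imm_polyProj {U : X.Opens} {V : Y.Opens} (hU : IsAffineOpen U) (hV : IsAffineOpen V) {k : ℕ}
    (φ : CommRingCat.of (MvPolynomial (Fin k) Γ(Y, V)) ⟶ Γ(X, U)) (hφ : IsPres f U V φ) :
    imm U φ ≫ polyProj Γ(Y, V) k ≫ hV.fromSpec = U.ι ≫ f := by
  have h1 : CommRingCat.ofHom (MvPolynomial.C : Γ(Y, V) →+* MvPolynomial (Fin k) Γ(Y, V)) ≫ φ =
      f.appLE V U hφ.1 := by
    ext r
    exact hφ.2.2 r
  rw [imm, Category.assoc, ← Category.assoc (Spec.map φ), polyProj, ← Spec.map_comp, h1,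
    hV.SpecMap_appLE_fromSpec f hU hφ.1, ← Category.assoc, ← hU.isoSpec_hom, hU.isoSpec_hom_fromSpec]

/-- Pseudo-coherence read on the spectrum of the sections. -/
lemma locPC_push_spec {V : Y.Opens} {W : Z.Opens} (hV : IsAffineOpen V) {n : ℕ}
    (ψ : CommRingCat.of (MvPolynomial (Fin n) Γ(Z, W)) ⟶ Γ(Y, V)) (hψ : IsPres g V W ψ)
    {c : ℤ} (P : CochainComplex Y.Modules ℤ) (h : PCOn g c (DCoh.toD Y P) V W) :
    haveI := IsClosedImmersion.spec_of_surjective ψ hψ.surjective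
    LocPC c ((pushD (Spec.map ψ)).obj (DCoh.toD _ ((pullCx hV.fromSpec).obj P))) := by
  haveI := IsClosedImmersion.spec_of_surjective ψ hψ.surjective
  haveI := isClosedImmersion_imm hV ψ hψ.surjective
  haveI := isClosedImmersion_imm hV (𝟙 Γ(Y, V)) Function.surjective_id
  have hc : imm V ψ = hV.isoSpec.hom ≫ Spec.map ψ := by rw [hV.isoSpec_hom]; rfl
  have h' : LocPC c ((pushD (imm V ψ)).obj ((rho V.ι).obj (DCoh.toD Y P))) := h.any hV ψ hψ
  refine LocPC.of_iso (pushDCongr hc _ ≪≫ pushDComp hV.isoSpec.hom (Spec.map ψ) _ ≪≫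
    (pushD (Spec.map ψ)).mapIso ?_) h'
  exact (pushD hV.isoSpec.hom).mapIso
      (rhoComp hV.isoSpec.hom hV.fromSpec V.ι hV.isoSpec_hom_fromSpec _).symm ≪≫
    pushRhoIso hV.isoSpec _ ≪≫ (rhoQ hV.fromSpec).app P ≪≫
    DerivedCategory.Q.mapIso ((restrictPullCxIso hV.fromSpec).app P)

variable [LocallyOfFiniteType f] [LocallyOfFiniteType g]

/-- Relative pseudo-coherence of `E ⊗^L Lf^*F`. -/
theorem isPseudoCoherentRel_tensor {a b c d : ℤ}
    (E : CochainComplex X.Modules ℤ) (hE : DerSch.IsPseudoCoherentRel f a (DCoh.toD X E))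
    [hEb : (DCoh.toD X E).IsLE b] (F : DCoh.D Y) (hF : DerSch.IsPseudoCoherentRel g c F) [hFd : F.IsLE d]
    [DCoh.HasLpull f] [DCoh.HasLTensorCx E] :
    DerSch.IsPseudoCoherentRel (f ≫ g) (max (a + d) (b + c))
      ((DCoh.LTensorCx E).obj ((DCoh.Lpull f).obj F)) := by
  obtain ⟨P, hP, ⟨eP⟩⟩ := Pull.exists_kflat_rep (DerivedCategory.Q.objPreimage F)
  let eF : DCoh.toD Y P ≅ F := eP ≪≫ DerivedCategory.Q.objObjPreimageIso F
  obtain ⟨cT⟩ := Pull.nonempty_ltensorX_iso E (isKFlat_pullback f hP)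
    ((Pull.lpullKFIso f hP).symm ≪≫ (DCoh.Lpull f).mapIso eF) (Iso.refl (DCoh.toD X E))
  refine isPseudoCoherentRel_of_locally fun x => ?_
  obtain ⟨U, V, W, hxU, hU, hV, hW, hUV, hVW⟩ := exists_affine_nhds f g x
  obtain ⟨k, φ, hφ⟩ := exists_isPres (f := f) hU hV hUV
  obtain ⟨n, ψ, hψ⟩ := exists_isPres (f := g) hV hW hVW
  haveI := isClosedImmersion_imm hU φ hφ.surjective
  haveI := IsClosedImmersion.spec_of_surjective (stackψ k ψ) (stackψ_surjective k ψ hψ.surjective)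
  refine ⟨U, W, hxU, hW, (pcOn_comp_iff hU φ hφ ψ hψ).2 ?_⟩
  let π := polyProj Γ(Y, V) k ≫ hV.fromSpec
  let N := (pullCx π).obj P
  let E₁ := (rCx U.ι).obj E
  let E' := (mapCx (Scheme.Modules.pushforward (imm U φ))).obj E₁
  let eE : (pushD (imm U φ)).obj ((rho U.ι).obj (DCoh.toD X E)) ≅ DCoh.toD _ E' :=
    (pushD (imm U φ)).mapIso ((rhoQ U.ι).app E) ≪≫ (pushQ (imm U φ)).app E₁
  have hE' : LocPC a (DCoh.toD _ E') :=
    LocPC.of_iso eE (((isPseudoCoherentRel_iff.1 hE).2 U V hU hV hUV).any hU φ hφ)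
  haveI hE'b : (DCoh.toD _ E').IsLE b := (DerivedCategory.isLE_iff _ _).2 fun i hi =>
    (isZero_HD_push (imm U φ) (isZero_HD_rho U.ι ((DerivedCategory.isLE_iff _ _).1 hEb i hi))).of_iso
      ((DerivedCategory.homologyFunctor _ i).mapIso eE.symm)
  haveI hNd : (DCoh.toD _ N).IsLE d := (DerivedCategory.isLE_iff _ _).2 fun i hi =>
    Pull.isZero_HD_of_exactAt (Iso.refl _) i (Pull.exactAt_pull_flat π
      (Pull.exactAt_of_isZero_HD eF i ((DerivedCategory.isLE_iff _ _).1 hFd i hi)))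
  haveI := IsClosedImmersion.spec_of_surjective ψ hψ.surjective
  have hN : LocPC c ((pushD (Spec.map (stackψ k ψ))).obj (DCoh.toD _ N)) := by
    refine LocPC.of_iso ((pushD _).mapIso (DerivedCategory.Q.mapIso
      (Pull.pullCxCompIso (polyProj Γ(Y, V) k) hV.fromSpec π rfl P))) ?_
    refine locPC_push_poly ψ k hψ.surjective _ (locPC_push_spec g hV ψ hψ P ?_)
    exact (isPseudoCoherentRel_iff.1
      (isPseudoCoherentRel_of_iso eF.symm hF)).2 V W hV hW hVW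
  have hmain := locPC_push_tensor (Spec.map (stackψ k ψ)) N E' (isKFlat_pullback π hP) hE'
    (b := b) (d := d) hN
  obtain ⟨ep⟩ := nonempty_projCxIso (imm U φ) E₁ N
  let eL : (rCx U.ι).obj ((pullCx f).obj P) ≅ (pullCx (imm U φ)).obj N :=
    (restrictPullCxIso U.ι).app _ ≪≫ Pull.pullCxCompIso U.ι f (U.ι ≫ f) rfl P ≪≫
      (Pull.pullCxCompIso (imm U φ) π (U.ι ≫ f) (imm_polyProj f hU hV φ hφ) P).symm
  let eT : (rCx U.ι).obj ((DCoh.tensorCx.obj ((pullCx f).obj P)).obj E) ≅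
      (DCoh.tensorCx.obj E₁).obj ((pullCx (imm U φ)).obj N) :=
    restrictTensorIso U.ι _ E ≪≫ (DCoh.tensorCx.mapIso eL).app E₁ ≪≫ Pull.braidX _ _
  refine LocPC.of_iso ((pushD (Spec.map (stackψ k ψ))).mapIso ?_) hmain
  exact DerivedCategory.Q.mapIso (Pull.braidX _ _ ≪≫ ep) ≪≫ ((pushQ (imm U φ)).app _).symm ≪≫
    (pushD (imm U φ)).mapIso ((DerivedCategory.Q.mapIso eT).symm ≪≫ ((rhoQ U.ι).app _).symm ≪≫
      (rho U.ι).mapIso cT.symm)

end Groth.Agent.KSix54.TensorPC
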