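import Groth.Agent.Dual349.ClosedUnit

/-! The counit of `i^* ⊣ i_*` along a closed immersion is an isomorphism. -/

set_option linter.style.haveILetI false

universe u

open CategoryTheory CategoryTheory.Limits AlgebraicGeometry

namespace Groth.Agent.KSix54.TensorPC

variable {X Z : Scheme.{u}} (i : Z ⟶ X) [IsClosedImmersion i]

lemma isIso_of_isIso_pushMap {M N : Z.Modules} (φ : M ⟶ N)
    [IsIso ((Scheme.Modules.pushforward i).map φ)] : IsIso φ := by
  refine Scheme.Modules.Hom.isIso_iff_isIso_app.2 fun V => ?_
  obtain ⟨U, hU, he⟩ := i.isClosedEmbedding.isInducing.isOpen_iff.1 V.2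
  obtain rfl : i ⁻¹ᵁ ⟨U, hU⟩ = V := TopologicalSpace.Opens.ext he
  exact Scheme.Modules.Hom.isIso_iff_isIso_app.1
    (inferInstance : IsIso ((Scheme.Modules.pushforward i).map φ)) ⟨U, hU⟩

/-- The counit at an arbitrary module. -/
theorem isIso_counit_closed (M : Z.Modules) :
    IsIso ((Scheme.Modules.pullbackPushforwardAdjunction i).counit.app M) := by
  let adj := Scheme.Modules.pullbackPushforwardAdjunction i
  have h := adj.right_triangle_components M
  haveI : Mono (adj.unit.app ((Scheme.Modules.pushforward i).obj M)) := by
    haveI : Mono (adj.unit.app ((Scheme.Modules.pushforward i).obj M) ≫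
        (Scheme.Modules.pushforward i).map (adj.counit.app M)) := by rw [h]; infer_instance
    exact mono_of_mono _ ((Scheme.Modules.pushforward i).map (adj.counit.app M))
  haveI : IsIso (adj.unit.app ((Scheme.Modules.pushforward i).obj M)) := isIso_of_mono_of_epi _
  haveI : IsIso ((Scheme.Modules.pushforward i).map (adj.counit.app M)) := by
    haveI : IsIso (adj.unit.app ((Scheme.Modules.pushforward i).obj M) ≫
        (Scheme.Modules.pushforward i).map (adj.counit.app M)) := by rw [h]; infer_instance
    exact IsIso.of_isIso_comp_left (adj.unit.app ((Scheme.Modules.pushforward i).obj M)) _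
  exact isIso_of_isIso_pushMap i _

/-- The counit as a natural isomorphism. -/
noncomputable def counitNatIso :
    Scheme.Modules.pushforward i ⋙ Scheme.Modules.pullback i ≅ 𝟭 Z.Modules :=
  haveI : ∀ M, IsIso ((Scheme.Modules.pullbackPushforwardAdjunction i).counit.app M) :=
    isIso_counit_closed i
  haveI := NatIso.isIso_of_isIso_app (Scheme.Modules.pullbackPushforwardAdjunction i).counit
  asIso (Scheme.Modules.pullbackPushforwardAdjunction i).counit

end Groth.Agent.KSix54.TensorPC
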