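import Groth.Agent.KSix54.TensorPC.Apply
import Groth.Agent.KSix54.Rel.BaseChange

/-! Composites with pseudo-coherent morphisms, without bounds on the cohomology. -/

set_option linter.style.haveILetI false
set_option backward.isDefEq.respectTransparency false

universe u

open CategoryTheory CategoryTheory.Limits AlgebraicGeometry

attribute [local instance] HasDerivedCategory.standard

namespace Groth.Agent.KSix54.TensorPC

open Groth.Agent.KFlatLib

variable {X Y S : Scheme.{u}} {f : X ⟶ Y} {g : Y ⟶ S} [LocallyOfFiniteType f] [LocallyOfFiniteType g]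

/-- Relative pseudo-coherence over a pseudo-coherent base. -/
theorem isPseudoCoherentRel_comp_iff_all (hg : ∀ n, DerSch.IsNPseudoCoherent g n) (m : ℤ) (E : DCoh.D X) :
    DerSch.IsPseudoCoherentRel f m E ↔ DerSch.IsPseudoCoherentRel (f ≫ g) m E := by
  have bd : ∀ {W : X.Opens} {b : ℤ}, (∀ n, b < n → IsZero ((DCoh.HD E n).restrict W.ι)) →
      ∀ n, b < n → IsZero (DCoh.HD ((rho W.ι).obj E) n) :=
    fun hW n hn => (hW n hn).of_iso (hdRhoIso _ E n)
  constructor <;> intro h <;> refine isPseudoCoherentRel_of_openCover fun x => ?_ <;>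
    obtain ⟨W, b, hxW, hW⟩ := exists_bound_nhd_rel h x <;>
    refine ⟨_, W.ι, inferInstance, ⟨⟨x, hxW⟩, rfl⟩, ?_⟩
  · rw [← Category.assoc]
    exact isPseudoCoherentRel_mono (max_le le_rfl (le_of_eq (by omega)))
      (isPseudoCoherentRel_comp (g := g) (bd hW) (isPseudoCoherentRel_restrict W.ι f h) (hg (m - b)))
  · have h' := isPseudoCoherentRel_restrict W.ι _ h
    rw [← Category.assoc] at h'
    exact isPseudoCoherentRel_of_comp (bd hW) h' (hg (m - b)) (by omega)

/-- Derived pullback along a pseudo-coherent morphism. -/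
theorem isPseudoCoherentRel_lpull_all (hf : ∀ n, DerSch.IsNPseudoCoherent f n) [DCoh.HasLpull f]
    (m : ℤ) (E : DCoh.D Y) (hE : DerSch.IsPseudoCoherentRel g m E) :
    DerSch.IsPseudoCoherentRel (f ≫ g) m ((DCoh.Lpull f).obj E) := by
  obtain ⟨P, hP, ⟨eP⟩⟩ := Pull.exists_kflat_rep (DerivedCategory.Q.objPreimage E)
  let eE : DCoh.toD Y P ≅ E := eP ≪≫ DerivedCategory.Q.objObjPreimageIso E
  refine isPseudoCoherentRel_of_openCover fun x => ?_
  obtain ⟨V, b, hxV, hV⟩ := exists_bound_nhd_rel hE (f.base x)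
  let U := f ⁻¹ᵁ V
  refine ⟨_, U.ι, inferInstance, ⟨⟨x, hxV⟩, rfl⟩, ?_⟩
  haveI : LocallyOfFiniteType (f ∣_ V) :=
    MorphismProperty.of_isPullback (isPullback_morphismRestrict f V).flip inferInstance
  have hf' : ∀ n, DerSch.IsNPseudoCoherent (f ∣_ V) n := fun n =>
    isNPseudoCoherent_baseChange f (f ∣_ V) U.ι V.ι (isPullback_morphismRestrict f V).flip (hf n)
  haveI := hasLpull (f ∣_ V)
  haveI := hasLTensorCx (DerSch.unitCx (U : Scheme.{u}))
  let P' := (pullCx V.ι).obj P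
  let eV : DCoh.toD _ P' ≅ (rho V.ι).obj E :=
    DerivedCategory.Q.mapIso ((restrictPullCxIso V.ι).app P).symm ≪≫ ((rhoQ V.ι).app P).symm ≪≫
      (rho V.ι).mapIso eE
  haveI : ((rho V.ι).obj E).IsLE b := (DerivedCategory.isLE_iff _ _).2 fun n hn =>
    (hV n hn).of_iso (hdRhoIso _ E n)
  haveI : (DCoh.toD _ (DerSch.unitCx (U : Scheme.{u}))).IsLE 0 := (DerivedCategory.isLE_iff _ _).2 fun n hn =>
    Pull.isZero_HD_of_exactAt (Iso.refl _) n ((HomologicalComplex.exactAt_iff_isZero_homology _ _).2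
      (HomologicalComplex.isZero_single_obj_homology _ _ _ _ (by omega)))
  have hT := isPseudoCoherentRel_tensor (f ∣_ V) (V.ι ≫ g) (DerSch.unitCx (U : Scheme.{u})) (b := 0) (d := b)
    (hf' (m - b)) _ (isPseudoCoherentRel_restrict V.ι g hE)
  obtain ⟨c⟩ := Pull.nonempty_ltensorX_iso (DerSch.unitCx (U : Scheme.{u}))
    (isKFlat_pullback (f ∣_ V) (isKFlat_pullback V.ι hP))
    ((Pull.lpullKFIso (f ∣_ V) (isKFlat_pullback V.ι hP)).symm ≪≫ (DCoh.Lpull (f ∣_ V)).mapIso eV)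
    (Iso.refl (DCoh.toD _ (DerSch.unitCx (U : Scheme.{u}))))
  have hw : (f ∣_ V) ≫ V.ι ≫ g = U.ι ≫ f ≫ g := by rw [← Category.assoc, morphismRestrict_ι, Category.assoc]
  rw [hw] at hT
  refine isPseudoCoherentRel_mono (max_le (le_of_eq (by omega)) (le_of_eq (by omega)))
    (isPseudoCoherentRel_of_iso ?_ hT)
  exact c ≪≫ DerivedCategory.Q.mapIso (Pull.braidX _ _ ≪≫ unitTensorIso _ ≪≫
      Pull.pullCxCompIso (f ∣_ V) V.ι _ (morphismRestrict_ι f V) P ≪≫
      (Pull.pullCxCompIso U.ι f _ rfl P).symm ≪≫ ((restrictPullCxIso U.ι).app _).symm) ≪≫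
    ((rhoQ U.ι).app _).symm ≪≫ (rho U.ι).mapIso ((Pull.lpullKFIso f hP).symm ≪≫ (DCoh.Lpull f).mapIso eE)

end Groth.Agent.KSix54.TensorPC
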