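import Groth.Agent.KSix54.TensorPC.RelBC
import Groth.Agent.H9Misc.DRingPCDescent
import Groth.Agent.KFlatLib.Scheme.TildeD
import Groth.Agent.KFlatLib.Scheme.RHomLocal

/-! Faithfully flat descent of relative pseudo-coherence. -/

set_option linter.style.haveILetI false
set_option backward.isDefEq.respectTransparency false

universe u

open CategoryTheory CategoryTheory.Limits AlgebraicGeometry TopologicalSpace

attribute [local instance] HasDerivedCategory.standard

namespace Groth.Agent.KSix54.TensorPC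

open Groth.Agent.KFlatLib Groth.Agent.H9Misc

/-- Along a flat map `Lf^*` is computed by `f^*`. -/
noncomputable def lpullFlatIso {W W' : Scheme.{u}} (q : W' ⟶ W) [Flat q] [DCoh.HasLpull q]
    (C : CochainComplex W.Modules ℤ) :
    (DCoh.Lpull q).obj (DCoh.toD W C) ≅ DCoh.toD W' ((pullCx q).obj C) :=
  haveI := preservesHomology_pullback q
  haveI : QuasiIso ((flatCover W).ψ.app C) := (flatCover W).quasiIso_ψ C
  haveI : IsIso (DerivedCategory.Q.map ((pullCx q).map ((flatCover W).ψ.app C))) := isIso_Q_map _ inferInstance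
  (DCoh.Lpull q).mapIso ((resQIso W).app C).symm ≪≫
    Pull.lpullKFIso q (isKFlat_kRes C) ≪≫
      asIso (DerivedCategory.Q.map ((pullCx q).map ((flatCover W).ψ.app C)))

/-- Descent of pseudo-coherence along affine faithfully flat maps. -/
theorem locPC_descend_spec {A A' : CommRingCat.{u}} (θ : A ⟶ A') (hθ : θ.hom.FaithfullyFlat)
    (C : CochainComplex (Spec A).Modules ℤ) (hq : DCoh.IsQCohD (DCoh.toD _ C)) {m : ℤ}
    (h : LocPC m (DCoh.toD _ ((pullCx (Spec.map θ)).obj C))) : LocPC m (DCoh.toD _ C) := by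
  obtain ⟨M, ⟨eM⟩⟩ := exists_tildeD_iso hq
  haveI : Flat (Spec.map θ) := (HasRingHomProperty.Spec_iff (P := @Flat)).2 hθ.flat
  haveI := hasLpull (Spec.map θ)
  let K := DerivedCategory.Q.objPreimage M
  let eK : (DCoh.tildeD A).obj (DerivedCategory.Q.obj K) ≅ DCoh.toD _ C :=
    (DCoh.tildeD A).mapIso (DerivedCategory.Q.objObjPreimageIso M) ≪≫ eM
  let eT := (tilde.functor A).mapDerivedCategoryFactors.app K
  refine LocPC.of_iso eK ((pseudoCoherent_tildeD_iff m _).2 ?_)
  letI : Algebra A A' := θ.hom.toAlgebra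
  haveI : Module.FaithfullyFlat A A' := hθ
  refine DRingPCDescent.pc_descent (R' := (A' : Type u)) K m ?_
  refine (pseudoCoherent_tildeD_iff (A := A') m _).1 (LocPC.of_iso ?_ h)
  let ext := (DRingLTensor.extC' θ.hom).obj K
  let e : (pullCx (Spec.map θ)).obj (((tilde.functor A).mapHomologicalComplex _).obj K) ≅
      ((tilde.functor A').mapHomologicalComplex _).obj ext :=
    HomologicalComplex.Hom.isoOfComponents (fun i => (QCoh.tildePullbackIso θ).app (K.X i))
      fun i j _ => ((QCoh.tildePullbackIso θ).hom.naturality (K.d i j)).symm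
  exact (lpullFlatIso (Spec.map θ) C).symm ≪≫ (DCoh.Lpull (Spec.map θ)).mapIso (eK.symm ≪≫ eT) ≪≫
    lpullFlatIso (Spec.map θ) _ ≪≫ DerivedCategory.Q.mapIso e ≪≫
    ((tilde.functor A').mapDerivedCategoryFactors.app ext).symm

section

set_option backward.isDefEq.respectTransparency.types false

attribute [local instance] MvPolynomial.algebraMvPolynomial

/-- Adjoining variables keeps faithful flatness. -/
lemma faithfullyFlat_map_poly {R R' : CommRingCat.{u}} (ρ : R ⟶ R') (hρ : ρ.hom.FaithfullyFlat) (n : ℕ) :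
    (MvPolynomial.map (σ := Fin n) ρ.hom).FaithfullyFlat := by
  letI := ρ.hom.toAlgebra
  haveI : Module.FaithfullyFlat R R' := hρ
  haveI : Algebra.IsPushout R R' (MvPolynomial (Fin n) R) (MvPolynomial (Fin n) R') :=
    Algebra.IsPushout.symm inferInstance
  exact RingHom.FaithfullyFlat.isStableUnderBaseChange R R' (MvPolynomial (Fin n) R)
    (MvPolynomial (Fin n) R') ((RingHom.faithfullyFlat_algebraMap_iff).2 inferInstance)

end

variable {X Y : Scheme.{u}}

/-- Descent of the test along a faithfully flat affine cover of the base. -/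
theorem pcOn_descend {f : X ⟶ Y} [LocallyOfFiniteType f] {T : Scheme.{u}} [IsAffine T] {h : T ⟶ Y}
    [Flat h] {X' : Scheme.{u}} {p : X' ⟶ X} {f' : X' ⟶ T} (hc : IsPullback p f' f h) [DCoh.HasLpull p]
    {m : ℤ} {E : DCoh.D X} (hq : DCoh.IsQCohD E)
    (hE : DerSch.IsPseudoCoherentRel f' m ((DCoh.Lpull p).obj E))
    {W : Y.Opens} (hW : IsAffineOpen W) (hhW : Set.range h.base = W)
    {U : X.Opens} (hU : IsAffineOpen U) (hUW : U ≤ f ⁻¹ᵁ W) : PCOn f m E U W := by
  obtain ⟨P, hP, ⟨eP⟩⟩ := Pull.exists_kflat_rep (DerivedCategory.Q.objPreimage E)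
  let eE : DCoh.toD X P ≅ E := eP ≪≫ DerivedCategory.Q.objObjPreimageIso E
  have hV : IsAffineOpen (⊤ : T.Opens) := isAffineOpen_top T
  have hVW : (⊤ : T.Opens) ≤ h ⁻¹ᵁ W := fun t _ => hhW.le ⟨t, rfl⟩
  let U' := p ⁻¹ᵁ U ⊓ f' ⁻¹ᵁ ⊤
  have hpo := (isIso_pushoutSection_iff hc hVW hUW (UY := U') rfl).1
    (isIso_pushoutSection_of_isAffineOpen hc hVW hUW (UY := U') rfl hW hV hU)
  have hU' : IsAffineOpen U' := by
    haveI : IsAffine _ := hW
    haveI : IsAffine _ := hV
    haveI : IsAffine _ := hU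
    exact .of_isIso (Scheme.Hom.isPullback_resLE hc hVW hUW (UY := U') rfl).isoPullback.hom
  obtain ⟨n, φ, hφ⟩ := exists_isPres (f := f) hU hW hUW
  obtain ⟨φ', hφ's, hφ'C, hp⟩ := exists_pres_bc hpo.flip φ hφ.2.2 hφ.surjective
  haveI := IsClosedImmersion.spec_of_surjective φ hφ.surjective
  haveI := IsClosedImmersion.spec_of_surjective φ' hφ's
  have hflat := HasRingHomProperty.appLE @Flat h inferInstance ⟨W, hW⟩ ⟨⊤, hV⟩ hVW
  haveI : Flat (Spec.map (h.appLE W ⊤ hVW)) := (HasRingHomProperty.Spec_iff (P := @Flat)).2 hflat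
  have hsurj : Surjective (Spec.map (h.appLE W ⊤ hVW)) := by
    refine ⟨fun w => ?_⟩
    obtain ⟨t, ht⟩ : hW.fromSpec w ∈ Set.range h.base := hhW.ge (hW.range_fromSpec.le ⟨w, rfl⟩)
    obtain ⟨t', rfl⟩ : t ∈ Set.range hV.fromSpec := hV.range_fromSpec.ge (Set.mem_univ t)
    refine ⟨t', hW.fromSpec.isOpenEmbedding.injective ?_⟩
    exact (congrArg (fun k => k.base t') (hW.SpecMap_appLE_fromSpec h hV hVW)).trans ht
  have hff := (flat_and_surjective_SpecMap_iff (h.appLE W ⊤ hVW)).1 ⟨inferInstance, hsurj⟩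
  have hffp := faithfullyFlat_map_poly (h.appLE W ⊤ hVW) hff n
  refine pcOn_congr_iso f eE (pcOn_of_push_spec hU φ hφ P ?_)
  let G := (pullCx hU.fromSpec).obj P
  let N := (mapCx (Scheme.Modules.pushforward (Spec.map φ))).obj G
  let eN : (pushD (Spec.map φ)).obj ((rho hU.fromSpec).obj E) ≅ DCoh.toD _ N :=
    (pushD (Spec.map φ)).mapIso ((rho hU.fromSpec).mapIso eE.symm ≪≫ (rhoQ hU.fromSpec).app P ≪≫
      DerivedCategory.Q.mapIso ((restrictPullCxIso hU.fromSpec).app P)) ≪≫ (pushQ (Spec.map φ)).app G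
  refine LocPC.of_iso ((pushQ (Spec.map φ)).app G).symm (locPC_descend_spec
    (CommRingCat.ofHom (MvPolynomial.map (σ := Fin n) (h.appLE W ⊤ hVW).hom)) hffp N ?_ ?_)
  · exact isQCohD_of_iso eN fun i => isQCoh_of_iso ((pushHD (Spec.map φ) i).app _).symm
      (QCoh.isQCoh_pushforward _ (isQCohD_rho hU.fromSpec hq i))
  · obtain ⟨ew⟩ := nonempty_push_spec_bc hp G
    have h' := locPC_push_spec f' hU' φ' ⟨inf_le_right, hφ's, hφ'C⟩ _
      ((isPseudoCoherentRel_iff.1 (isPseudoCoherentRel_of_iso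
        ((DCoh.Lpull p).mapIso eE.symm ≪≫ Pull.lpullKFIso p hP) hE)).2 U' ⊤ hU' hV inf_le_right)
    refine LocPC.of_iso ((pushD (Spec.map φ')).mapIso (DerivedCategory.Q.mapIso ?_) ≪≫
      (pushQ (Spec.map φ')).app _ ≪≫ DerivedCategory.Q.mapIso ew) h'
    exact (Pull.pullCxCompIso hU'.fromSpec p _ rfl P) ≪≫
      (Pull.pullCxCompIso (Spec.map (p.appLE U U' inf_le_left)) hU.fromSpec _
        (hU.SpecMap_appLE_fromSpec p hU' inf_le_left) P).symm

/-- Descent of relative pseudo-coherence along fpqc morphisms. -/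
theorem isPseudoCoherentRel_descend {Y' : Scheme.{u}} (f : X ⟶ Y) [LocallyOfFiniteType f] (h : Y' ⟶ Y)
    [Flat h] [Surjective h] [QuasiCompact h] [DCoh.HasLpull (pullback.fst f h)] {m : ℤ} {E : DCoh.D X}
    (hq : DCoh.IsQCohD E)
    (hE : DerSch.IsPseudoCoherentRel (pullback.snd f h) m ((DCoh.Lpull (pullback.fst f h)).obj E)) :
    DerSch.IsPseudoCoherentRel f m E := by
  refine isPseudoCoherentRel_of_locally fun x => ?_
  obtain ⟨W, hW, hxW, -⟩ := exists_isAffineOpen_mem_and_subset (X := Y) (x := f.base x) (U := ⊤) trivial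
  obtain ⟨U, hU, hxU, hUW⟩ := exists_isAffineOpen_mem_and_subset (X := X) (x := x) (U := f ⁻¹ᵁ W) hxW
  haveI : CompactSpace ((h ⁻¹ᵁ W : Y'.Opens) : Scheme.{u}) :=
    isCompact_iff_compactSpace.1 (h.isCompact_preimage hW.isCompact)
  obtain ⟨T, t, htS, htL, hT⟩ :=
    Scheme.exists_hom_isAffine_of_isZariskiLocalAtSource @IsLocalIso ((h ⁻¹ᵁ W : Y'.Opens) : Scheme.{u})
  haveI := hT
  haveI := htL
  let t' : T ⟶ Y' := t ≫ (h ⁻¹ᵁ W).ι
  haveI : Flat t := IsLocalIso.le_of_isZariskiLocalAtSource @Flat _ _ t htL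
  haveI : Flat t' := inferInstance
  let X' := pullback f h
  let p := pullback.fst f h
  let f' := pullback.snd f h
  let p₂ := pullback.fst f' t'
  have hpb : IsPullback (p₂ ≫ p) (pullback.snd f' t') f (t' ≫ h) :=
    (IsPullback.of_hasPullback f' t').paste_horiz (IsPullback.of_hasPullback f h)
  haveI := hasLpull p₂
  haveI := hasLpull (p₂ ≫ p)
  have hE' := isPseudoCoherentRel_flat_bc (IsPullback.of_hasPullback f' t') hE
  obtain ⟨ec⟩ := nonempty_lpull_comp p₂ p
  refine ⟨U, W, hxU, hW, pcOn_descend hpb hq (isPseudoCoherentRel_of_iso (ec.app E) hE') hW ?_ hU hUW⟩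
  ext y
  constructor
  · rintro ⟨z, rfl⟩
    exact (t.base z).2
  · intro hy
    obtain ⟨y', rfl⟩ := h.surjective y
    obtain ⟨z, hz⟩ := t.surjective ⟨y', hy⟩
    exact ⟨z, congrArg (fun v : ((h ⁻¹ᵁ W : Y'.Opens) : Scheme.{u}) => h.base v.1) hz⟩

end Groth.Agent.KSix54.TensorPC
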