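import Groth.Agent.KSix54.TensorPC.PcMap
import Groth.Agent.KSix54.PCI.Core
import Groth.Agent.KSix54.Pull.Tensor
import Groth.Agent.KFlatLib.Scheme.LocalDevissage
import Groth.Agent.KFlatLib.Scheme.RHomLocal
import Groth.Agent.KFlatLib.Scheme.ProjFormula
import Groth.Agent.KFlatLib.InnerUnit

/-! Pseudo-coherence of the direct image of a derived tensor product along a closed immersion. -/

set_option linter.style.haveILetI false
set_option backward.isDefEq.respectTransparency false

universe u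

open CategoryTheory CategoryTheory.Limits AlgebraicGeometry CategoryTheory.Pretriangulated

attribute [local instance] HasDerivedCategory.standard

namespace Groth.Agent.KSix54.TensorPC

open Groth.Agent.KFlatLib

variable {X Y : Scheme.{u}} (i : X ⟶ Y) [IsClosedImmersion i]

/-- Restriction commutes with tensor products of complexes. -/
noncomputable def restrictTensorIso {U : Scheme.{u}} (j : U ⟶ X) [IsOpenImmersion j]
    (L E : CochainComplex X.Modules ℤ) :
    (rCx j).obj ((DCoh.tensorCx.obj L).obj E) ≅ (DCoh.tensorCx.obj ((rCx j).obj L)).obj ((rCx j).obj E) :=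
  (restrictPullCxIso j).app _ ≪≫ (pullTensorCxIso j L E).symm ≪≫
    (DCoh.tensorCx.mapIso ((restrictPullCxIso j).app L).symm).app _ ≪≫
    (DCoh.tensorCx.obj _).mapIso ((restrictPullCxIso j).app E).symm

/-- Tensoring with the structure module in one degree is a shift. -/
noncomputable def tensorSingleIso (L : CochainComplex X.Modules ℤ) (n : ℤ) :
    DCoh.toD X ((DCoh.tensorCx.obj L).obj
      ((HomologicalComplex.single X.Modules (ComplexShape.up ℤ) n).obj (Coh.structureModule X))) ≅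
      (DCoh.toD X L)⟦-n⟧ :=
  DerivedCategory.Q.mapIso
      ((Inner.tensorUnitShiftIso (DCoh.tensorBi (X := X)) (Coh.structureModule X) (tensorStructureIso X) n).app L) ≪≫
    (DerivedCategory.Q.commShiftIso (-n)).app L

/-- Direct image of `L ⊗ P` for a bounded complex of free modules `P`. -/
theorem locPC_push_tensor_free {c b : ℤ} (L : CochainComplex X.Modules ℤ)
    (hL : LocPC c ((pushD i).obj (DCoh.toD X L))) (a : ℤ) (m : ℕ) (P : CochainComplex X.Modules ℤ)
    (hz : ∀ k : ℤ, (k < a ∨ a + m ≤ k) → IsZero (P.X k))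
    (hf : ∀ k, ∃ n, Nonempty (P.X k ≅ FlatMod.freeMod X n)) (hb : ∀ k, b < k → IsZero (P.X k)) :
    LocPC (b + c) ((pushD i).obj (DCoh.toD X ((DCoh.tensorCx.obj L).obj P))) := by
  let G := fun C => (pushD i).obj (DCoh.toD X ((DCoh.tensorCx.obj L).obj C))
  let Ψ : ObjectProperty (CochainComplex X.Modules ℤ) := fun C =>
    (∀ k, b < k → IsZero (C.X k)) → LocPC (b + c) (G C)
  haveI : Ψ.IsClosedUnderIsomorphisms := ⟨fun e h hC => LocPC.of_iso
    ((pushD i).mapIso (DerivedCategory.Q.mapIso ((DCoh.tensorCx.obj L).mapIso e)))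
      (h fun k hk => (hC k hk).of_iso ((HomologicalComplex.eval _ _ k).mapIso e))⟩
  have hzero : ∀ C, IsZero C → LocPC (b + c) (G C) := fun C hC =>
    locPC_of_isZero _ _ fun k _ => (DerivedCategory.homologyFunctor Y.Modules k).map_isZero
      ((pushD i).map_isZero (DerivedCategory.Q.map_isZero ((DCoh.tensorCx.obj L).map_isZero hC)))
  refine cx_devissage Ψ (fun C hC _ => hzero C hC) (fun S hS _ h₁ h₃ hC => ?_) (fun n hn => ?_) a m P hz hf hb
  · have hse := shortExact₂_of_splitting (T := DCoh.tensorBi) L S hS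
    refine (locPC_two_of_three (b + c) _ ((pushD i).map_distinguished _
      (DerivedCategory.triangleOfSES_distinguished hse))).2.1 (h₁ fun k hk => ?_) (h₃ fun k hk => ?_)
    · haveI := (hS k).some.mono_f
      exact IsZero.of_mono (S.map (HomologicalComplex.eval _ _ k)).f (hC k hk)
    · haveI := (hS k).some.epi_g
      exact IsZero.of_epi (S.map (HomologicalComplex.eval _ _ k)).g (hC k hk)
  · rcases lt_or_ge b n with h | h
    · exact hzero _ ((HomologicalComplex.single X.Modules (ComplexShape.up ℤ) n).map_isZero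
        ((hn n h).of_iso (HomologicalComplex.singleObjXSelf (ComplexShape.up ℤ) n (Coh.structureModule X)).symm))
    · refine LocPC.of_iso (((pushD i).mapIso (tensorSingleIso L n)).trans
        (((pushD i).commShiftIso (-n)).app _)).symm ((hL.shift (-n)).mono ?_)
      omega

/-- Direct image of a derived tensor product. -/
theorem locPC_push_tensor {a b c d : ℤ} (L E : CochainComplex X.Modules ℤ) (hLk : DCoh.IsKFlat L)
    (hE : LocPC a (DCoh.toD X E)) [hEb : (DCoh.toD X E).IsLE b]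
    (hL : LocPC c ((pushD i).obj (DCoh.toD X L))) [hLd : (DCoh.toD X L).IsLE d] :
    LocPC (max (a + d) (b + c)) ((pushD i).obj (DCoh.toD X ((DCoh.tensorCx.obj L).obj E))) := by
  rcases lt_or_ge b a with hab | hab
  · haveI := hasLTensorCx E
    have h := Perf52.isLE_ltensorCx E hEb hLd
    have h' : (DCoh.toD X ((DCoh.tensorCx.obj L).obj E)).IsLE (b + d) :=
      DerivedCategory.TStructure.t.isLE_of_iso (ltensorCxIso E hLk) _
    exact locPC_of_isZero _ _ fun n hn => isZero_HD_push i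
      ((DerivedCategory.isLE_iff _ _).1 h' n (by have := le_max_left (a + d) (b + c); omega))
  refine locPC_pushD_of_cover i fun x => ?_
  obtain ⟨U, j, _, ⟨z, hz⟩, P, α, hP, hα⟩ := hE x
  obtain ⟨P', hP', hzb, -, ⟨e'⟩⟩ := exists_cutoff b
    (max (Classical.choose (Classical.choose_spec hP.1)) b - b).toNat P hP
    (fun n hn => (Classical.choose_spec (Classical.choose_spec hP.1)) n (Or.inr (by omega)))
    (fun n hn => by
      haveI := hα.1 n (by omega)
      exact ((isZero_HD_rho j ((DerivedCategory.isLE_iff _ _).1 hEb n hn)).of_iso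
        (asIso ((DerivedCategory.homologyFunctor _ n).map α))).of_iso
          ((DerivedCategory.homologyFunctorFactors _ n).app P).symm)
  obtain ⟨W₀, hxW₀, hfree⟩ := exists_free_nhd_sp hP' z
  let k₀ := W₀.ι ≫ j
  obtain ⟨V, hxV, hV⟩ := exists_preimage_eq i k₀.opensRange (show x ∈ k₀.opensRange from ⟨⟨z, hxW₀⟩, hz⟩)
  haveI := restrict_closed i V
  refine ⟨V, hxV, ?_⟩
  let W := i ⁻¹ᵁ V
  have hrg : Set.range W.ι.base ⊆ Set.range k₀.base := by
    rw [Scheme.Opens.range_ι]
    exact le_of_eq (congrArg SetLike.coe hV)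
  let k : (W : Scheme.{u}) ⟶ (W₀ : Scheme.{u}) := IsOpenImmersion.lift k₀ W.ι hrg
  have hk : k ≫ k₀ = W.ι := IsOpenImmersion.lift_fac _ _ _
  haveI : IsOpenImmersion k := by
    haveI : IsOpenImmersion (k ≫ k₀) := hk ▸ inferInstance
    exact IsOpenImmersion.of_comp k k₀
  let q : (W : Scheme.{u}) ⟶ U := k ≫ W₀.ι
  have hq : q ≫ j = W.ι := (Category.assoc _ _ _).trans hk
  let P₁ := (rCx q).obj P'
  let E₁ := (rCx W.ι).obj E
  let L₁ := (rCx W.ι).obj L
  have hL₁ : DCoh.IsKFlat L₁ := isKFlat_restrict W.ι hLk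
  let α₁ : DerivedCategory.Q.obj P₁ ⟶ DCoh.toD _ E₁ :=
    ((rhoQ q).app P').inv ≫ (rho q).map (e'.hom ≫ α) ≫ ((rhoComp q j W.ι hq (DCoh.toD X E)) ≪≫ (rhoQ W.ι).app E).hom
  have hα₁ : IsPcMap a α₁ := (((isPcMap_of_isIso a e'.hom).comp hα).map_exact _).comp_iso _ _
  haveI := hasLTensorCx L₁
  haveI := isIso_LTensorCx_counit_of_isKFlat_right L₁ hL₁ P₁
  haveI := isIso_LTensorCx_counit_of_isKFlat_right L₁ hL₁ E₁
  haveI hL₁d : (DCoh.toD _ L₁).IsLE d := (DerivedCategory.isLE_iff _ _).2 fun n hn =>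
    (isZero_HD_rho W.ι ((DerivedCategory.isLE_iff _ _).1 hLd n hn)).of_iso
      ((DerivedCategory.homologyFunctor _ n).mapIso ((rhoQ W.ι).app L).symm)
  let cP : (DCoh.LTensorCx L₁).obj (DCoh.toD _ P₁) ≅ DCoh.toD _ ((DCoh.tensorCx.obj L₁).obj P₁) :=
    asIso (((DCoh.tensorCxQ L₁).totalLeftDerivedCounit DerivedCategory.Q (qisX _)).app P₁) ≪≫
      DerivedCategory.Q.mapIso (Pull.braidX P₁ L₁)
  let cE : (DCoh.LTensorCx L₁).obj (DCoh.toD _ E₁) ≅ DCoh.toD _ ((DCoh.tensorCx.obj L₁).obj E₁) :=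
    asIso (((DCoh.tensorCxQ L₁).totalLeftDerivedCounit DerivedCategory.Q (qisX _)).app E₁) ≪≫
      DerivedCategory.Q.mapIso (Pull.braidX E₁ L₁)
  have hβ : IsPcMap (a + d) (cP.inv ≫ (DCoh.LTensorCx L₁).map α₁ ≫ cE.hom) :=
    (isPcMap_ltensor L₁ hL₁d α₁ hα₁).comp_iso _ _
  have hLpush : LocPC c ((pushD (i ∣_ V)).obj (DCoh.toD _ L₁)) :=
    LocPC.of_iso ((pushRho i V _) ≪≫ (pushD (i ∣_ V)).mapIso ((rhoQ W.ι).app L)) (hL.restrict V.ι)
  obtain ⟨lo, hi, hlh⟩ := hP'.1
  have hPpc := locPC_push_tensor_free (b := b) (i ∣_ V) L₁ hLpush lo ((hi + 1 - lo).toNat) P₁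
    (fun n hn => (Scheme.Modules.restrictFunctor q).map_isZero (hlh n (by omega)))
    (fun n => by
      obtain ⟨r, ⟨er⟩⟩ := hfree n
      exact ⟨r, ⟨(Scheme.Modules.restrictFunctorComp k W₀.ι).app _ ≪≫
        (Scheme.Modules.restrictFunctor k).mapIso er ≪≫
        (Scheme.Modules.restrictFunctorIsoPullback k).app _ ≪≫ pullFreeIso k r⟩⟩)
    (fun n hn => (Scheme.Modules.restrictFunctor q).map_isZero (hzb n hn))
  refine LocPC.of_iso ((pushD (i ∣_ V)).mapIso ((DerivedCategory.Q.mapIso (restrictTensorIso W.ι L E)).symm ≪≫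
    ((rhoQ W.ι).app _).symm)) ?_
  exact locPC_of_isPcMap _ (hβ.map_exact (Scheme.Modules.pushforward (i ∣_ V))) (le_max_left _ _)
    (hPpc.mono (le_max_right _ _))

end Groth.Agent.KSix54.TensorPC
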