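import Groth.Agent.KSix54.TensorPC.ClosedCounit
import Groth.Agent.KSix54.TensorPC.Push
import Groth.Agent.KSix54.Pull.Bounds
import Groth.Agent.KFlatLib.Scheme.FlatDescent
import Groth.Agent.KFlatLib.Scheme.ProjClosed

/-! Flat base change of direct images along closed immersions. -/

set_option linter.style.haveILetI false
set_option backward.isDefEq.respectTransparency false

universe u

open CategoryTheory CategoryTheory.Limits AlgebraicGeometry

attribute [local instance] HasDerivedCategory.standard

namespace Groth.Agent.KSix54.TensorPC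

open Groth.Agent.KFlatLib

/-- `i^* i_* C ≅ C`. -/
noncomputable def counitCxIso {Z X : Scheme.{u}} (i : Z ⟶ X) [IsClosedImmersion i]
    (C : CochainComplex Z.Modules ℤ) :
    (pullCx i).obj ((mapCx (Scheme.Modules.pushforward i)).obj C) ≅ C :=
  HomologicalComplex.Hom.isoOfComponents (fun n => (counitNatIso i).app (C.X n))
    (fun n m _ => ((counitNatIso i).hom.naturality (C.d n m)).symm)

/-- The structure module in degree zero is a unit. -/
noncomputable def unitTensorIso {X : Scheme.{u}} (C : CochainComplex X.Modules ℤ) :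
    (DCoh.tensorCx.obj ((HomologicalComplex.single X.Modules (ComplexShape.up ℤ) 0).obj
      (Coh.structureModule X))).obj C ≅ C :=
  Pull.braidX _ C ≪≫
    ((Inner.tensorUnitShiftIso (DCoh.tensorBi (X := X)) (Coh.structureModule X) (tensorStructureIso X) 0).app C) ≪≫
    (shiftFunctorZero' _ (-0 : ℤ) neg_zero).app C

/-- A functor moves a complex in one degree. -/
noncomputable def mapSingleIso {X Y : Scheme.{u}} (F : X.Modules ⥤ Y.Modules) [F.Additive] (M : X.Modules) :
    (mapCx F).obj ((HomologicalComplex.single X.Modules (ComplexShape.up ℤ) 0).obj M) ≅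
      (HomologicalComplex.single Y.Modules (ComplexShape.up ℤ) 0).obj (F.obj M) :=
  (HomologicalComplex.singleMapHomologicalComplex F (ComplexShape.up ℤ) 0).app M

variable {V W V' W' : Scheme.{u}} (i : V ⟶ W) (s : V' ⟶ W') (p : V' ⟶ V) (q : W' ⟶ W)
  [IsClosedImmersion i] [IsClosedImmersion s]

/-- Base change for a complex of arbitrary modules, given base change for the structure module. -/
theorem nonempty_push_bc (hc : s ≫ q = p ≫ i)
    (β : (Scheme.Modules.pullback q).obj ((Scheme.Modules.pushforward i).obj (Coh.structureModule V)) ≅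
      (Scheme.Modules.pushforward s).obj (Coh.structureModule V'))
    (G : CochainComplex V.Modules ℤ) :
    Nonempty ((mapCx (Scheme.Modules.pushforward s)).obj ((pullCx p).obj G) ≅
      (pullCx q).obj ((mapCx (Scheme.Modules.pushforward i)).obj G)) := by
  let N := (mapCx (Scheme.Modules.pushforward i)).obj G
  let O₀ := (HomologicalComplex.single V.Modules (ComplexShape.up ℤ) 0).obj (Coh.structureModule V)
  let O₀' := (HomologicalComplex.single V'.Modules (ComplexShape.up ℤ) 0).obj (Coh.structureModule V')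
  let eO : (mapCx (Scheme.Modules.pushforward s)).obj O₀' ≅
      (pullCx q).obj ((mapCx (Scheme.Modules.pushforward i)).obj O₀) :=
    mapSingleIso _ _ ≪≫ (HomologicalComplex.single W'.Modules (ComplexShape.up ℤ) 0).mapIso β.symm ≪≫
      (mapSingleIso _ _).symm ≪≫
      (pullCx q).mapIso (mapSingleIso (Scheme.Modules.pushforward i) _).symm
  let eP : (pullCx p).obj G ≅ (DCoh.tensorCx.obj O₀').obj ((pullCx s).obj ((pullCx q).obj N)) :=
    (pullCx p).mapIso (counitCxIso i G).symm ≪≫ Pull.pullCxCompIso p i (p ≫ i) rfl N ≪≫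
      (Pull.pullCxCompIso s q (p ≫ i) hc N).symm ≪≫ (unitTensorIso _).symm
  obtain ⟨π₁⟩ := nonempty_projCxIso s O₀' ((pullCx q).obj N)
  obtain ⟨π₂⟩ := nonempty_projCxIso i O₀ N
  exact ⟨(mapCx (Scheme.Modules.pushforward s)).mapIso eP ≪≫ π₁.symm ≪≫
    (DCoh.tensorCx.mapIso eO).app _ ≪≫ pullTensorCxIso q _ N ≪≫
    (pullCx q).mapIso (π₂ ≪≫ (mapCx (Scheme.Modules.pushforward i)).mapIso
      ((DCoh.tensorCx.obj O₀).mapIso (counitCxIso i G) ≪≫ unitTensorIso G))⟩

/-- Pseudo-coherence is kept by flat pullback of complexes. -/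
theorem locPC_pullCx [Flat q] {m : ℤ} (C : CochainComplex W.Modules ℤ) (h : LocPC m (DCoh.toD W C)) :
    LocPC m (DCoh.toD W' ((pullCx q).obj C)) := by
  haveI := hasLpull q
  haveI := preservesHomology_pullback q
  haveI : QuasiIso ((flatCover W).ψ.app C) := (flatCover W).quasiIso_ψ C
  haveI : IsIso (DerivedCategory.Q.map ((pullCx q).map ((flatCover W).ψ.app C))) := isIso_Q_map _ inferInstance
  refine LocPC.of_iso ?_ ((isPseudoCoherentD_iff m _).1 (isPseudoCoherentD_lpull q ((isPseudoCoherentD_iff m _).2 h)))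
  exact (DCoh.Lpull q).mapIso ((resQIso W).app C).symm ≪≫
    Pull.lpullKFIso q (isKFlat_kRes C) ≪≫ asIso (DerivedCategory.Q.map ((pullCx q).map ((flatCover W).ψ.app C)))

end Groth.Agent.KSix54.TensorPC
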