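import Groth.Agent.Perf52.LTensorBound
import Groth.Agent.KFlatLib.Perfect.Tri

/-! Derived tensor products of maps which are isomorphisms in high degrees. -/

set_option linter.style.haveILetI false

universe u

open CategoryTheory CategoryTheory.Limits AlgebraicGeometry Pretriangulated

attribute [local instance] HasDerivedCategory.standard

namespace Groth.Agent.KSix54.TensorPC

open Groth.Agent.KFlatLib

variable {X : Scheme.{u}}

lemma isLE_cone {a : ℤ} (T : Triangle (DCoh.D X)) (hT : T ∈ distinguishedTriangles)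
    (h : IsPcMap a T.mor₁) : T.obj₃.IsLE (a - 1) := by
  refine (DerivedCategory.isLE_iff _ _).2 fun i hi => ?_
  refine (DerivedCategory.HomologySequence.exact₃ T hT i (i + 1) rfl).isZero_of_both_zeros ?_ ?_
  · exact (DerivedCategory.HomologySequence.epi_homologyMap_mor₁_iff T hT i).1 (h.mono (by omega : a ≤ i)).2
  · haveI := h.1 (i + 1) (by omega)
    exact (DerivedCategory.HomologySequence.mono_homologyMap_mor₁_iff T hT i (i + 1) rfl).1 inferInstance

/-- `- ⊗^L L` of a map which is an isomorphism in high degrees. -/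
theorem isPcMap_ltensor (L : CochainComplex X.Modules ℤ) [DCoh.HasLTensorCx L] {d : ℤ}
    (hL : (DCoh.toD X L).IsLE d) {a : ℤ} {A B : DCoh.D X} (α : A ⟶ B) (h : IsPcMap a α) :
    IsPcMap (a + d) ((DCoh.LTensorCx L).map α) := by
  obtain ⟨C, g, δ, hT⟩ := distinguished_cocone_triangle α
  have hC : C.IsLE (a - 1) := isLE_cone _ hT h
  let T := Triangle.mk α g δ
  haveI : ∀ i : ℤ, (DCoh.LTensorCx L ⋙ DerivedCategory.homologyFunctor X.Modules i).IsHomological :=
    fun i => Perf52.isHomological_ltensorCx_comp L (DerivedCategory.homologyFunctor X.Modules i)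
  have ex : ∀ (S : Triangle (DCoh.D X)) (hS : S ∈ distinguishedTriangles) (i : ℤ),
      ((shortComplexOfDistTriangle S hS).map
        (DCoh.LTensorCx L ⋙ DerivedCategory.homologyFunctor X.Modules i)).Exact :=
    fun S hS i => Functor.map_distinguished_exact _ S hS
  have hepi : ∀ i, a + d ≤ i → Epi ((DerivedCategory.homologyFunctor X.Modules i).map
      ((DCoh.LTensorCx L).map α)) := fun i hi => by
    have h1 := Perf52.isLE_ltensorCx L hL hC
    exact (ex T hT i).epi_f (((DerivedCategory.isLE_iff _ _).1 h1 i (by omega)).eq_of_tgt _ _)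
  refine ⟨fun i hi => ?_, hepi _ le_rfl⟩
  haveI := hepi i hi.le
  haveI : Mono ((DerivedCategory.homologyFunctor X.Modules i).map ((DCoh.LTensorCx L).map α)) := by
    haveI := hC
    have hC' : (C⟦(-1 : ℤ)⟧).IsLE a := DerivedCategory.TStructure.t.isLE_shift C (a - 1) (-1) a (by omega)
    have h1 := Perf52.isLE_ltensorCx L hL hC'
    exact (ex T.invRotate (inv_rot_of_distTriang T hT) i).mono_g
      (((DerivedCategory.isLE_iff _ _).1 h1 i (by omega)).eq_of_src _ _)
  exact isIso_of_mono_of_epi _

end Groth.Agent.KSix54.TensorPC
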