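import Groth.Agent.KSix54.TensorPC.FlatBC
import Groth.Agent.KSix54.PCI.Spec
import Groth.Agent.QCoh.Pullback
import Mathlib.RingTheory.TensorProduct.MvPolynomial

/-! Adjoining variables to a closed immersion of affine schemes. -/

set_option linter.style.haveILetI false
set_option backward.isDefEq.respectTransparency false
set_option backward.isDefEq.respectTransparency.types false

universe u

open CategoryTheory CategoryTheory.Limits AlgebraicGeometry TensorProduct

attribute [local instance] HasDerivedCategory.standard MvPolynomial.algebraMvPolynomial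

namespace Groth.Agent.KSix54.TensorPC

open Groth.Agent.KFlatLib

/-- `extendScalars` along `algebraMap` is the tensor product. -/
lemma nonempty_extend_iso {P P' : Type u} [CommRing P] [CommRing P'] [i : Algebra P P'] (M : ModuleCat.{u} P) :
    Nonempty ((ModuleCat.extendScalars.{u, u, u} (algebraMap P P')).obj M ≅
      ModuleCat.of P' (P' ⊗[P] M)) := by
  have he : (algebraMap P P').toAlgebra = i := Algebra.algebra_ext _ _ fun _ => rfl
  revert he
  generalize algebraMap P P' = φ
  intro he
  subst he
  exact ⟨Iso.refl _⟩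

/-- The extended module of `B` is `B[σ]`. -/
lemma nonempty_extend_poly_iso {A B : CommRingCat.{u}} (g : A ⟶ B) (σ : Type) :
    Nonempty ((ModuleCat.extendScalars.{u, u, u} (MvPolynomial.C : A →+* MvPolynomial σ A)).obj
        ((ModuleCat.restrictScalars g.hom).obj (ModuleCat.of B B)) ≅
      (ModuleCat.restrictScalars (MvPolynomial.map (σ := σ) g.hom)).obj
        (ModuleCat.of (MvPolynomial σ B) (MvPolynomial σ B))) := by
  letI : Algebra A B := g.hom.toAlgebra
  haveI : Algebra.IsPushout A (MvPolynomial σ A) B (MvPolynomial σ B) := inferInstance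
  obtain ⟨e⟩ := nonempty_extend_iso (P := A) (P' := MvPolynomial σ A)
    ((ModuleCat.restrictScalars g.hom).obj (ModuleCat.of B B))
  exact ⟨e ≪≫ (Algebra.IsPushout.equiv A (MvPolynomial σ A) B (MvPolynomial σ B)).toLinearEquiv.toModuleIso⟩

variable {A B : CommRingCat.{u}} (g : A ⟶ B) (k : ℕ)

/-- `Spec` of `A ⟶ A[k]`. -/
noncomputable abbrev polyProj (A : CommRingCat.{u}) (k : ℕ) :
    Spec (CommRingCat.of (MvPolynomial (Fin k) A)) ⟶ Spec A :=
  Spec.map (CommRingCat.ofHom (MvPolynomial.C : A →+* MvPolynomial (Fin k) A))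

instance flat_polyProj (A : CommRingCat.{u}) (k : ℕ) : Flat (polyProj A k) := by
  rw [HasRingHomProperty.Spec_iff (P := @Flat)]
  exact RingHom.flat_algebraMap_iff.2 (inferInstance : Module.Flat A (MvPolynomial (Fin k) A))

/-- `Spec` of `A[k] ⟶ B[k]`. -/
noncomputable abbrev polyMap : Spec (CommRingCat.of (MvPolynomial (Fin k) B)) ⟶
    Spec (CommRingCat.of (MvPolynomial (Fin k) A)) :=
  Spec.map (CommRingCat.ofHom (MvPolynomial.map g.hom))

lemma polyMap_polyProj : polyMap g k ≫ polyProj A k = polyProj B k ≫ Spec.map g := by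
  rw [polyMap, polyProj, polyProj, ← Spec.map_comp, ← Spec.map_comp]
  congr 1
  ext a : 2
  exact MvPolynomial.map_C _ a

/-- Base change for the structure module. -/
theorem nonempty_push_O_bc :
    Nonempty ((Scheme.Modules.pullback (polyProj A k)).obj
        ((Scheme.Modules.pushforward (Spec.map g)).obj (Coh.structureModule (Spec B))) ≅
      (Scheme.Modules.pushforward (polyMap g k)).obj (Coh.structureModule _)) := by
  obtain ⟨e⟩ := nonempty_extend_poly_iso g (Fin k)
  exact ⟨(Scheme.Modules.pullback (polyProj A k)).mapIso (tildeRestrictSelfIso g).symm ≪≫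
    (QCoh.tildePullbackIso (CommRingCat.ofHom (MvPolynomial.C : A →+* MvPolynomial (Fin k) A))).app _ ≪≫
    (tilde.functor _).mapIso e ≪≫ tildeRestrictSelfIso (CommRingCat.ofHom (MvPolynomial.map g.hom))⟩

/-- Pseudo-coherent direct images after adjoining variables. -/
theorem locPC_push_poly (hg : Function.Surjective g) {m : ℤ} (G : CochainComplex (Spec B).Modules ℤ)
    (h : haveI := IsClosedImmersion.spec_of_surjective g hg
      LocPC m ((pushD (Spec.map g)).obj (DCoh.toD _ G))) :
    haveI := IsClosedImmersion.spec_of_surjective (CommRingCat.ofHom (MvPolynomial.map (σ := Fin k) g.hom))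
      (MvPolynomial.map_surjective _ hg)
    LocPC m ((pushD (polyMap g k)).obj (DCoh.toD _ ((pullCx (polyProj B k)).obj G))) := by
  haveI := IsClosedImmersion.spec_of_surjective g hg
  haveI := IsClosedImmersion.spec_of_surjective (CommRingCat.ofHom (MvPolynomial.map (σ := Fin k) g.hom))
    (MvPolynomial.map_surjective _ hg)
  obtain ⟨β⟩ := nonempty_push_O_bc g k
  obtain ⟨e⟩ := nonempty_push_bc (Spec.map g) (polyMap g k) (polyProj B k) (polyProj A k)
    (polyMap_polyProj g k) β G
  refine LocPC.of_iso ?_ (locPC_pullCx (polyProj A k) _ (LocPC.of_iso ((pushQ (Spec.map g)).app G) h))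
  exact DerivedCategory.Q.mapIso e.symm ≪≫ ((pushQ (polyMap g k)).app _).symm

end Groth.Agent.KSix54.TensorPC
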