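import Groth.Agent.KSix54.TensorPC.PolyBC
import Groth.Agent.KRegLib.BaseChange

/-! Flat base change of direct images along closed immersions of affine schemes. -/

set_option linter.style.haveILetI false
set_option backward.isDefEq.respectTransparency false
set_option backward.isDefEq.respectTransparency.types false

universe u

open CategoryTheory CategoryTheory.Limits AlgebraicGeometry TensorProduct

attribute [local instance] HasDerivedCategory.standard MvPolynomial.algebraMvPolynomial

namespace Groth.Agent.KSix54.TensorPC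

open Groth.Agent.KFlatLib

/-- The extended module of a quotient along a pushout. -/
lemma nonempty_extend_pushout_iso {A B A' B' : CommRingCat.{u}} {g : A ⟶ B} {θ : A ⟶ A'} {g' : A' ⟶ B'}
    {θ' : B ⟶ B'} (h : IsPushout θ g g' θ') :
    Nonempty ((ModuleCat.extendScalars.{u, u, u} θ.hom).obj
        ((ModuleCat.restrictScalars g.hom).obj (ModuleCat.of B B)) ≅
      (ModuleCat.restrictScalars g'.hom).obj (ModuleCat.of B' B')) := by
  letI : Algebra A B := g.hom.toAlgebra
  letI : Algebra A A' := θ.hom.toAlgebra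
  letI : Algebra A' B' := g'.hom.toAlgebra
  letI : Algebra B B' := θ'.hom.toAlgebra
  letI : Algebra A B' := (g'.hom.comp θ.hom).toAlgebra
  haveI : IsScalarTower A A' B' := .of_algebraMap_eq fun _ => rfl
  haveI : IsScalarTower A B B' := .of_algebraMap_eq' congr(($h.w).hom)
  haveI : Algebra.IsPushout A A' B B' := CommRingCat.isPushout_iff_isPushout.1 h
  obtain ⟨e⟩ := nonempty_extend_iso (P := A) (P' := A')
    ((ModuleCat.restrictScalars g.hom).obj (ModuleCat.of B B))
  exact ⟨e ≪≫ (Algebra.IsPushout.equiv A A' B B').toLinearEquiv.toModuleIso⟩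

variable {A B A' B' : CommRingCat.{u}} {g : A ⟶ B} {θ : A ⟶ A'} {g' : A' ⟶ B'} {θ' : B ⟶ B'}

/-- Base change of direct images along closed immersions of affine schemes. -/
theorem nonempty_push_spec_bc (hp : IsPushout θ g g' θ')
    [IsClosedImmersion (Spec.map g)] [IsClosedImmersion (Spec.map g')]
    (G : CochainComplex (Spec B).Modules ℤ) :
    Nonempty ((mapCx (Scheme.Modules.pushforward (Spec.map g'))).obj ((pullCx (Spec.map θ')).obj G) ≅
      (pullCx (Spec.map θ)).obj ((mapCx (Scheme.Modules.pushforward (Spec.map g))).obj G)) := by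
  obtain ⟨e⟩ := nonempty_extend_pushout_iso hp
  have hc : Spec.map g' ≫ Spec.map θ = Spec.map θ' ≫ Spec.map g := by
    rw [← Spec.map_comp, ← Spec.map_comp, hp.w]
  exact nonempty_push_bc (Spec.map g) (Spec.map g') (Spec.map θ') (Spec.map θ) hc
    ((Scheme.Modules.pullback (Spec.map θ)).mapIso (tildeRestrictSelfIso g).symm ≪≫
      (QCoh.tildePullbackIso θ).app _ ≪≫ (tilde.functor _).mapIso e ≪≫ tildeRestrictSelfIso g') G

/-- Pseudo-coherence of direct images is kept by flat base change. -/
theorem locPC_push_bc (hp : IsPushout θ g g' θ') [Flat (Spec.map θ)]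
    [IsClosedImmersion (Spec.map g)] [IsClosedImmersion (Spec.map g')]
    {m : ℤ} (G : CochainComplex (Spec B).Modules ℤ)
    (h : LocPC m ((pushD (Spec.map g)).obj (DCoh.toD _ G))) :
    LocPC m ((pushD (Spec.map g')).obj (DCoh.toD _ ((pullCx (Spec.map θ')).obj G))) := by
  obtain ⟨ew⟩ := nonempty_push_spec_bc hp G
  refine LocPC.of_iso ?_ (locPC_pullCx (Spec.map θ) _ (LocPC.of_iso ((pushQ (Spec.map g)).app G) h))
  exact DerivedCategory.Q.mapIso ew.symm ≪≫ ((pushQ (Spec.map g')).app _).symm

/-- Presentations change base along pushouts. -/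
theorem exists_pres_bc {R R' B B' : CommRingCat.{u}} {b : R ⟶ B} {ρ : R ⟶ R'} {b' : R' ⟶ B'} {β : B ⟶ B'}
    (hp : IsPushout ρ b b' β) {n : ℕ} (φ : CommRingCat.of (MvPolynomial (Fin n) R) ⟶ B)
    (hC : ∀ r, φ (MvPolynomial.C r) = b r) (hφ : Function.Surjective φ) :
    ∃ φ' : CommRingCat.of (MvPolynomial (Fin n) R') ⟶ B', Function.Surjective φ' ∧
      (∀ r, φ' (MvPolynomial.C r) = b' r) ∧
      IsPushout (CommRingCat.ofHom (MvPolynomial.map (σ := Fin n) ρ.hom)) φ φ' β := by
  letI : Algebra R B := b.hom.toAlgebra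
  letI : Algebra R R' := ρ.hom.toAlgebra
  letI : Algebra R' B' := b'.hom.toAlgebra
  letI : Algebra B B' := β.hom.toAlgebra
  letI : Algebra R B' := (b'.hom.comp ρ.hom).toAlgebra
  haveI : IsScalarTower R R' B' := .of_algebraMap_eq fun _ => rfl
  haveI : IsScalarTower R B B' := .of_algebraMap_eq' congr(($hp.w).hom)
  haveI : Algebra.IsPushout R R' B B' := CommRingCat.isPushout_iff_isPushout.1 hp
  let f : MvPolynomial (Fin n) R →ₐ[R] B := { φ.hom with commutes' := hC }
  obtain ⟨g, hg, hgf, -⟩ := KRegLib.exists_baseChange_presentation (L := R') (B' := B') f hφ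
  refine ⟨CommRingCat.ofHom g.toRingHom, hg, fun r => g.commutes r, ?_⟩
  let P := MvPolynomial (Fin n) R
  let P' := MvPolynomial (Fin n) R'
  haveI : Algebra.IsPushout R R' P P' := Algebra.IsPushout.symm inferInstance
  letI := f.toRingHom.toAlgebra
  letI := g.toRingHom.toAlgebra
  letI : Algebra P B' := ((algebraMap B B').comp f.toRingHom).toAlgebra
  haveI : IsScalarTower R P B := .of_algebraMap_eq fun a => (f.commutes a).symm
  haveI : IsScalarTower R' P' B' := .of_algebraMap_eq fun a => (g.commutes a).symm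
  haveI : IsScalarTower P B B' := .of_algebraMap_eq fun _ => rfl
  haveI : IsScalarTower P P' B' := .of_algebraMap_eq fun x => (hgf x).symm
  haveI : IsScalarTower R P B' := .of_algebraMap_eq fun a =>
    (IsScalarTower.algebraMap_apply R B B' a).trans (congrArg (algebraMap B B') (f.commutes a).symm)
  haveI : IsScalarTower R P P' := .of_algebraMap_eq fun a => (MvPolynomial.map_C _ a).symm
  haveI : IsScalarTower R P' B' := IsScalarTower.of_algebraMap_eq fun a => by
    rw [IsScalarTower.algebraMap_apply R R' B', IsScalarTower.algebraMap_apply R R' P',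
      ← IsScalarTower.algebraMap_apply R' P' B']
  haveI hP : Algebra.IsPushout P P' B B' :=
    ((Algebra.IsPushout.comp_iff (R := R) (S := P) (R' := R') (S' := P') (T := B) (T' := B')).1
      ‹Algebra.IsPushout R R' B B'›.symm).symm
  exact CommRingCat.isPushout_iff_isPushout.2 hP

/-- Adjoining variables commutes with base change. -/
lemma isPushout_poly {R R' : CommRingCat.{u}} (ρ : R ⟶ R') (n : ℕ) :
    IsPushout ρ (CommRingCat.ofHom (MvPolynomial.C : R →+* MvPolynomial (Fin n) R))
      (CommRingCat.ofHom (MvPolynomial.C : R' →+* MvPolynomial (Fin n) R'))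
      (CommRingCat.ofHom (MvPolynomial.map (σ := Fin n) ρ.hom)) := by
  letI := ρ.hom.toAlgebra
  exact CommRingCat.isPushout_of_isPushout R R' (MvPolynomial (Fin n) R) (MvPolynomial (Fin n) R')

/-- Adjoining variables keeps flatness. -/
lemma flat_map_poly {R R' : CommRingCat.{u}} (ρ : R ⟶ R') (hρ : ρ.hom.Flat) (n : ℕ) :
    Flat (Spec.map (CommRingCat.ofHom (MvPolynomial.map (σ := Fin n) ρ.hom))) := by
  rw [HasRingHomProperty.Spec_iff (P := @Flat)]
  letI := ρ.hom.toAlgebra
  haveI : Module.Flat R R' := hρ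
  haveI : Algebra.IsPushout R R' (MvPolynomial (Fin n) R) (MvPolynomial (Fin n) R') :=
    Algebra.IsPushout.symm inferInstance
  exact (RingHom.flat_algebraMap_iff (R := MvPolynomial (Fin n) R) (S := MvPolynomial (Fin n) R')).2
    (Module.Flat.of_linearEquiv
      (Algebra.IsPushout.equiv R (MvPolynomial (Fin n) R) R' (MvPolynomial (Fin n) R')).symm.toLinearEquiv)

end Groth.Agent.KSix54.TensorPC
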