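import Groth.Agent.KSix54.TensorPC.Chart
import Groth.Agent.KSix54.TensorPC.RingBC

/-! Flat base change of relative pseudo-coherence. -/

set_option linter.style.haveILetI false
set_option backward.isDefEq.respectTransparency false

universe u

open CategoryTheory CategoryTheory.Limits AlgebraicGeometry

attribute [local instance] HasDerivedCategory.standard

namespace Groth.Agent.KSix54.TensorPC

open Groth.Agent.KFlatLib

variable {X Y X' Y' : Scheme.{u}}

/-- A test read on the spectrum of the sections. -/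
lemma pcOn_of_push_spec {f : X ⟶ Y} {U : X.Opens} {V : Y.Opens} (hU : IsAffineOpen U) {n : ℕ}
    (φ : CommRingCat.of (MvPolynomial (Fin n) Γ(Y, V)) ⟶ Γ(X, U)) (hφ : IsPres f U V φ) {c : ℤ}
    (P : CochainComplex X.Modules ℤ)
    (h : haveI := IsClosedImmersion.spec_of_surjective φ hφ.surjective
      LocPC c ((pushD (Spec.map φ)).obj (DCoh.toD _ ((pullCx hU.fromSpec).obj P)))) :
    PCOn f c (DCoh.toD X P) U V := by
  haveI := IsClosedImmersion.spec_of_surjective φ hφ.surjective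
  haveI := isClosedImmersion_imm hU φ hφ.surjective
  haveI := isClosedImmersion_imm hU (𝟙 Γ(X, U)) Function.surjective_id
  have hc : imm U φ = hU.isoSpec.hom ≫ Spec.map φ := by rw [hU.isoSpec_hom]; rfl
  refine ⟨hU, n, φ, hφ, LocPC.of_iso (pushDCongr hc _ ≪≫ pushDComp hU.isoSpec.hom (Spec.map φ) _ ≪≫
    (pushD (Spec.map φ)).mapIso ?_).symm h⟩
  exact (pushD hU.isoSpec.hom).mapIso
      (rhoComp hU.isoSpec.hom hU.fromSpec U.ι hU.isoSpec_hom_fromSpec _).symm ≪≫
    pushRhoIso hU.isoSpec _ ≪≫ (rhoQ hU.fromSpec).app P ≪≫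
    DerivedCategory.Q.mapIso ((restrictPullCxIso hU.fromSpec).app P)

/-- Flat base change of relative pseudo-coherence. -/
theorem isPseudoCoherentRel_flat_bc {f : X ⟶ Y} [LocallyOfFiniteType f] {h : Y' ⟶ Y} [Flat h]
    {p : X' ⟶ X} {f' : X' ⟶ Y'} (hc : IsPullback p f' f h) [DCoh.HasLpull p] {m : ℤ} {E : DCoh.D X}
    (hE : DerSch.IsPseudoCoherentRel f m E) :
    DerSch.IsPseudoCoherentRel f' m ((DCoh.Lpull p).obj E) := by
  haveI : LocallyOfFiniteType f' := MorphismProperty.of_isPullback hc inferInstance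
  obtain ⟨P, hP, ⟨eP⟩⟩ := Pull.exists_kflat_rep (DerivedCategory.Q.objPreimage E)
  let eE : DCoh.toD X P ≅ E := eP ≪≫ DerivedCategory.Q.objObjPreimageIso E
  refine isPseudoCoherentRel_of_iso ((Pull.lpullKFIso p hP).symm ≪≫ (DCoh.Lpull p).mapIso eE) ?_
  refine isPseudoCoherentRel_of_locally fun z => ?_
  have e₁ : h (f' z) = f (p z) := (congrArg (fun k => k.base z) hc.w).symm
  obtain ⟨W, hW, hxW, -⟩ :=
    exists_isAffineOpen_mem_and_subset (X := Y) (x := h (f' z)) (U := ⊤) trivial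
  obtain ⟨V, hV, hxV, hVW⟩ := exists_isAffineOpen_mem_and_subset (x := f' z) (U := h ⁻¹ᵁ W) hxW
  obtain ⟨U, hU, hxU, hUW⟩ := exists_isAffineOpen_mem_and_subset (x := p z) (U := f ⁻¹ᵁ W)
    (show f (p z) ∈ W from e₁ ▸ hxW)
  let U' := p ⁻¹ᵁ U ⊓ f' ⁻¹ᵁ V
  have hpo := (isIso_pushoutSection_iff hc hVW hUW (UY := U') rfl).1
    (isIso_pushoutSection_of_isAffineOpen hc hVW hUW (UY := U') rfl hW hV hU)
  have hU' : IsAffineOpen U' := by
    haveI : IsAffine _ := hW
    haveI : IsAffine _ := hV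
    haveI : IsAffine _ := hU
    exact .of_isIso (Scheme.Hom.isPullback_resLE hc hVW hUW (UY := U') rfl).isoPullback.hom
  obtain ⟨n, φ, hφ⟩ := exists_isPres (f := f) hU hW hUW
  obtain ⟨φ', hφ's, hφ'C, hp⟩ := exists_pres_bc hpo.flip φ hφ.2.2 hφ.surjective
  haveI := IsClosedImmersion.spec_of_surjective φ hφ.surjective
  haveI := IsClosedImmersion.spec_of_surjective φ' hφ's
  haveI := flat_map_poly (h.appLE W V hVW)
    (HasRingHomProperty.appLE @Flat h inferInstance ⟨W, hW⟩ ⟨V, hV⟩ hVW) n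
  refine ⟨U', V, ⟨hxU, show f' z ∈ V from hxV⟩, hV,
    pcOn_of_push_spec hU' φ' ⟨inf_le_right, hφ's, hφ'C⟩ _ ?_⟩
  have h0 := locPC_push_spec f hU φ hφ P
    ((isPseudoCoherentRel_iff.1 (isPseudoCoherentRel_of_iso eE.symm hE)).2 U W hU hW hUW)
  refine LocPC.of_iso ((pushD (Spec.map φ')).mapIso (DerivedCategory.Q.mapIso ?_))
    (locPC_push_bc hp _ h0)
  exact Pull.pullCxCompIso (Spec.map (p.appLE U U' inf_le_left)) hU.fromSpec _ rfl P ≪≫
    (Pull.pullCxCompIso hU'.fromSpec p _ (hU.SpecMap_appLE_fromSpec p hU' inf_le_left).symm P).symm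

end Groth.Agent.KSix54.TensorPC
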