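import Groth.Agent.KSix54.TensorPC.StalkPush
import Groth.Agent.KSix54.TensorPC.RelBC
import Groth.Agent.KSix54.Pull.TorInd

/-! Tor-independent base change of relative pseudo-coherence. -/

set_option linter.style.haveILetI false
set_option backward.isDefEq.respectTransparency false
set_option backward.isDefEq.respectTransparency.types false

universe u

open CategoryTheory CategoryTheory.Limits AlgebraicGeometry CochainComplex

attribute [local instance] HasDerivedCategory.standard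

namespace Groth.Agent.KSix54.TensorPC

open Groth.Agent.KFlatLib Groth.Agent.H9Misc Groth.Agent.H9Misc.DRingLTensor

variable {S X Y X' Y' Y₁ W W' T T' : Scheme.{u}}

/-- Quasi-isomorphisms are kept by pullback when they are kept at every stalk. -/
theorem quasiIso_pullCx_of_stalk (θ : W' ⟶ W) {P N : CochainComplex W.Modules ℤ}
    (hP : DCoh.IsKFlat P) (s : P ⟶ N) [QuasiIso s]
    (hk : ∀ w : W', Pull.KeepsQis (θ.stalkMap w).hom ((stalkCx (θ.base w)).obj N)) :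
    QuasiIso ((pullCx θ).map s) := by
  refine quasiIso_of_acyclic_cone _ (acyclic_of_iso (mappingCone.mapHomologicalComplexIso s _)
    ((acyclic_iff_stalk _).2 fun w => ?_))
  have hA := acyclic_cone_of_quasiIso s
  have hs' : QuasiIso ((stalkCx (θ.base w)).map s) := quasiIso_of_acyclic_cone _
    (acyclic_of_iso (mappingCone.mapHomologicalComplexIso s _) ((acyclic_iff_stalk _).1 hA (θ.base w)))
  haveI := hk w _ ((stalkCx (θ.base w)).map s) ((kFlat_iff_stalk P).1 hP (θ.base w)) hs'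
  exact acyclic_of_iso ((stalkPullCxIso θ w (mappingCone s)) ≪≫
    (extC' (θ.stalkMap w).hom).mapIso (mappingCone.mapHomologicalComplexIso s _) ≪≫
    mappingCone.mapHomologicalComplexIso _ _).symm
      (acyclic_cone_of_quasiIso ((extC' (θ.stalkMap w).hom).map ((stalkCx (θ.base w)).map s)))

/-- Pullback of pseudo-coherence when stalks keep quasi-isomorphisms. -/
theorem locPC_pullCx_of_stalk (θ : W' ⟶ W) (N : CochainComplex W.Modules ℤ) {m : ℤ}
    (hk : ∀ w : W', Pull.KeepsQis (θ.stalkMap w).hom ((stalkCx (θ.base w)).obj N))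
    (h : LocPC m (DCoh.toD W N)) : LocPC m (DCoh.toD W' ((pullCx θ).obj N)) := by
  haveI := hasLpull θ
  haveI : QuasiIso ((flatCover W).ψ.app N) := (flatCover W).quasiIso_ψ N
  haveI := quasiIso_pullCx_of_stalk θ (isKFlat_kRes N) ((flatCover W).ψ.app N) hk
  haveI : IsIso (DerivedCategory.Q.map ((pullCx θ).map ((flatCover W).ψ.app N))) := isIso_Q_map _ inferInstance
  refine LocPC.of_iso ?_
    ((isPseudoCoherentD_iff m _).1 (isPseudoCoherentD_lpull θ ((isPseudoCoherentD_iff m _).2 h)))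
  exact (DCoh.Lpull θ).mapIso ((resQIso W).app N).symm ≪≫
    Pull.lpullKFIso θ (isKFlat_kRes N) ≪≫ asIso (DerivedCategory.Q.map ((pullCx θ).map ((flatCover W).ψ.app N)))

variable {A B A' B' : CommRingCat.{u}} {g : A ⟶ B} {θ : A ⟶ A'} {g' : A' ⟶ B'} {θ' : B ⟶ B'}

/-- Pseudo-coherence of direct images is kept by tor-independent base change. -/
theorem locPC_push_bc_torIndep (hp : IsPushout θ g g' θ')
    [IsClosedImmersion (Spec.map g)] [IsClosedImmersion (Spec.map g')]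
    (π : Spec A ⟶ T) [Flat π] [Flat (Spec.map g ≫ π)] {q₁ : T' ⟶ T} {p₁ : Spec A' ⟶ T'}
    (hsq : IsPullback (Spec.map θ) p₁ π q₁)
    {m : ℤ} (G : CochainComplex (Spec B).Modules ℤ) (hG : DCoh.IsKFlat G)
    (h : LocPC m ((pushD (Spec.map g)).obj (DCoh.toD _ G))) :
    LocPC m ((pushD (Spec.map g')).obj (DCoh.toD _ ((pullCx (Spec.map θ')).obj G))) := by
  obtain ⟨ew⟩ := nonempty_push_spec_bc hp G
  refine LocPC.of_iso ?_ (locPC_pullCx_of_stalk (Spec.map θ) _ (fun w => ?_)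
    (LocPC.of_iso ((pushQ (Spec.map g)).app G) h))
  · exact DerivedCategory.Q.mapIso ew.symm ≪≫ ((pushQ (Spec.map g')).app _).symm
  · have := Pull.keepsQis_specializes hsq w ((Spec.map θ).base w) rfl _
      (isKF_stalk_push (Spec.map g) π hG _)
    rwa [TopCat.Presheaf.stalkSpecializes_refl, Category.id_comp] at this

/-- Base change of relative pseudo-coherence along a tor-independent square of flat schemes over a base. -/
theorem isPseudoCoherentRel_bc_torIndep {f : X ⟶ Y} [LocallyOfFiniteType f] {h : Y' ⟶ Y}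
    {p : X' ⟶ X} {f' : X' ⟶ Y'} (hc : IsPullback p f' f h) (q : Y ⟶ S) [Flat q] [Flat (f ≫ q)]
    {q₁ : Y₁ ⟶ S} {p₁ : Y' ⟶ Y₁} (hY : IsPullback h p₁ q q₁)
    [DCoh.HasLpull p] {m : ℤ} {E : DCoh.D X}
    (hE : DerSch.IsPseudoCoherentRel f m E) :
    DerSch.IsPseudoCoherentRel f' m ((DCoh.Lpull p).obj E) := by
  haveI : LocallyOfFiniteType f' := MorphismProperty.of_isPullback hc inferInstance
  obtain ⟨P, hP, ⟨eP⟩⟩ := Pull.exists_kflat_rep (DerivedCategory.Q.objPreimage E)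
  let eE : DCoh.toD X P ≅ E := eP ≪≫ DerivedCategory.Q.objObjPreimageIso E
  refine isPseudoCoherentRel_of_iso ((Pull.lpullKFIso p hP).symm ≪≫ (DCoh.Lpull p).mapIso eE) ?_
  refine isPseudoCoherentRel_of_locally fun z => ?_
  have e₁ : h (f' z) = f (p z) := (congrArg (fun k => k.base z) hc.w).symm
  have e₂ : q₁ (p₁ (f' z)) = q (h (f' z)) := (congrArg (fun k => k.base (f' z)) hY.w).symm
  obtain ⟨T₀, hT, hxT, -⟩ :=
    exists_isAffineOpen_mem_and_subset (X := S) (x := q (h (f' z))) (U := ⊤) trivial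
  obtain ⟨W₀, hW, hxW, hWT⟩ := exists_isAffineOpen_mem_and_subset (x := h (f' z)) (U := q ⁻¹ᵁ T₀) hxT
  obtain ⟨V₁, hV₁, hxV₁, hV₁T⟩ := exists_isAffineOpen_mem_and_subset (x := p₁ (f' z)) (U := q₁ ⁻¹ᵁ T₀)
    (show q₁ (p₁ (f' z)) ∈ T₀ from e₂ ▸ hxT)
  obtain ⟨U, hU, hxU, hUW⟩ := exists_isAffineOpen_mem_and_subset (x := p z) (U := f ⁻¹ᵁ W₀)
    (show f (p z) ∈ W₀ from e₁ ▸ hxW)
  let V := h ⁻¹ᵁ W₀ ⊓ p₁ ⁻¹ᵁ V₁
  have hpoY := (isIso_pushoutSection_iff hY hV₁T hWT (UY := V) rfl).1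
    (isIso_pushoutSection_of_isAffineOpen hY hV₁T hWT (UY := V) rfl hT hV₁ hW)
  have hV : IsAffineOpen V := by
    haveI : IsAffine _ := hT
    haveI : IsAffine _ := hW
    haveI : IsAffine _ := hV₁
    exact .of_isIso (Scheme.Hom.isPullback_resLE hY hV₁T hWT (UY := V) rfl).isoPullback.hom
  have hVW : V ≤ h ⁻¹ᵁ W₀ := inf_le_left
  let U' := p ⁻¹ᵁ U ⊓ f' ⁻¹ᵁ V
  have hpo := (isIso_pushoutSection_iff hc hVW hUW (UY := U') rfl).1
    (isIso_pushoutSection_of_isAffineOpen hc hVW hUW (UY := U') rfl hW hV hU)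
  have hU' : IsAffineOpen U' := by
    haveI : IsAffine _ := hW
    haveI : IsAffine _ := hV
    haveI : IsAffine _ := hU
    exact .of_isIso (Scheme.Hom.isPullback_resLE hc hVW hUW (UY := U') rfl).isoPullback.hom
  obtain ⟨n, φ, hφ⟩ := exists_isPres (f := f) hU hW hUW
  obtain ⟨φ', hφ's, hφ'C, hp⟩ := exists_pres_bc hpo.flip φ hφ.2.2 hφ.surjective
  haveI := IsClosedImmersion.spec_of_surjective φ hφ.surjective
  haveI := IsClosedImmersion.spec_of_surjective φ' hφ's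
  let C₀ : Γ(Y, W₀) ⟶ CommRingCat.of (MvPolynomial (Fin n) Γ(Y, W₀)) := CommRingCat.ofHom MvPolynomial.C
  let C₁ : Γ(Y', V) ⟶ CommRingCat.of (MvPolynomial (Fin n) Γ(Y', V)) := CommRingCat.ofHom MvPolynomial.C
  have hpC : IsPushout C₀ (h.appLE W₀ V hVW)
      (CommRingCat.ofHom (MvPolynomial.map (σ := Fin n) (h.appLE W₀ V hVW).hom)) C₁ :=
    (isPushout_poly (h.appLE W₀ V hVW) n).flip
  have hsq : IsPullback (Spec.map (CommRingCat.ofHom (MvPolynomial.map (σ := Fin n) (h.appLE W₀ V hVW).hom)))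
      (Spec.map (p₁.appLE V₁ V inf_le_right ≫ C₁))
      (Spec.map (q.appLE T₀ W₀ hWT ≫ C₀)) (Spec.map (q₁.appLE T₀ V₁ hV₁T)) :=
    isPullback_SpecMap_of_isPushout _ _ _ _ (hpoY.paste_horiz hpC)
  haveI : Flat (Spec.map (q.appLE T₀ W₀ hWT ≫ C₀)) := by
    rw [Spec.map_comp]
    haveI : Flat (Spec.map (q.appLE T₀ W₀ hWT)) := (HasRingHomProperty.Spec_iff (P := @Flat)).2
      (HasRingHomProperty.appLE @Flat q inferInstance ⟨T₀, hT⟩ ⟨W₀, hW⟩ hWT)
    haveI : Flat (Spec.map C₀) := flat_polyProj Γ(Y, W₀) n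
    infer_instance
  haveI : Flat (Spec.map φ ≫ Spec.map (q.appLE T₀ W₀ hWT ≫ C₀)) := by
    have hC : C₀ ≫ φ = f.appLE W₀ U hUW := by
      ext r
      exact hφ.2.2 r
    have hUT : U ≤ (f ≫ q) ⁻¹ᵁ T₀ := hUW.trans (f.preimage_mono hWT)
    rw [← Spec.map_comp, Category.assoc, hC, Scheme.Hom.appLE_comp_appLE]
    exact (HasRingHomProperty.Spec_iff (P := @Flat)).2
      (HasRingHomProperty.appLE @Flat (f ≫ q) inferInstance ⟨T₀, hT⟩ ⟨U, hU⟩ hUT)
  refine ⟨U', V, ⟨hxU, show f' z ∈ V from ⟨hxW, hxV₁⟩⟩, hV,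
    pcOn_of_push_spec hU' φ' ⟨inf_le_right, hφ's, hφ'C⟩ _ ?_⟩
  have h0 := locPC_push_spec f hU φ hφ P
    ((isPseudoCoherentRel_iff.1 (isPseudoCoherentRel_of_iso eE.symm hE)).2 U W₀ hU hW hUW)
  refine LocPC.of_iso ((pushD (Spec.map φ')).mapIso (DerivedCategory.Q.mapIso ?_))
    (locPC_push_bc_torIndep hp _ hsq _ (isKFlat_pullback hU.fromSpec hP) h0)
  exact Pull.pullCxCompIso (Spec.map (p.appLE U U' inf_le_left)) hU.fromSpec _ rfl P ≪≫
    (Pull.pullCxCompIso hU'.fromSpec p _ (hU.SpecMap_appLE_fromSpec p hU' inf_le_left).symm P).symm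

end Groth.Agent.KSix54.TensorPC
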