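import Groth.Agent.KSix54.TensorPC.Apply
import Groth.Agent.KSix54.TensorPC.TorBC
import Groth.Agent.KSix54.Pull.Bounds

/-! Relative pseudo-coherence of external tensor products. -/

set_option linter.style.haveILetI false
set_option backward.isDefEq.respectTransparency false

universe u

open CategoryTheory CategoryTheory.Limits AlgebraicGeometry

attribute [local instance] HasDerivedCategory.standard

namespace Groth.Agent.KSix54.TensorPC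

open Groth.Agent.KFlatLib

variable {S X₁ Y₁ X₂ Y₂ X Y M : Scheme.{u}}

/-- Gluing the two factors of an external tensor product. -/
theorem isPseudoCoherentRel_glue {pX₁ : X ⟶ X₁} {pX₂ : X ⟶ X₂} {a : X ⟶ M} {b : M ⟶ Y}
    [LocallyOfFiniteType a] [LocallyOfFiniteType b] {pM₂ : M ⟶ X₂} (hap : a ≫ pM₂ = pX₂)
    (E₁ : CochainComplex X₁.Modules ℤ) (E₂ : CochainComplex X₂.Modules ℤ) {a₁ b₁ a₂ b₂ : ℤ}
    [DCoh.HasLpull pX₁] [DCoh.HasLpull pX₂] [DCoh.HasLpull pM₂]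
    [hb₁ : (DCoh.toD X₁ E₁).IsLE b₁] [hb₂ : (DCoh.toD X₂ E₂).IsLE b₂]
    (h₁ : DerSch.IsPseudoCoherentRel a a₁ ((DCoh.Lpull pX₁).obj (DCoh.toD X₁ E₁)))
    (h₂ : DerSch.IsPseudoCoherentRel b a₂ ((DCoh.Lpull pM₂).obj (DCoh.toD X₂ E₂)))
    (K₂ : CochainComplex X.Modules ℤ) [DCoh.HasLTensorCx K₂]
    (e : DCoh.toD X K₂ ≅ (DCoh.Lpull pX₂).obj (DCoh.toD X₂ E₂)) :
    DerSch.IsPseudoCoherentRel (a ≫ b) (max (a₁ + b₂) (b₁ + a₂))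
      ((DCoh.LTensorCx K₂).obj ((DCoh.Lpull pX₁).obj (DCoh.toD X₁ E₁))) := by
  obtain ⟨P₁, hP₁, ⟨e₁⟩⟩ := Pull.exists_kflat_rep E₁
  obtain ⟨P₂, hP₂, ⟨e₂⟩⟩ := Pull.exists_kflat_rep E₂
  let F := (pullCx pX₁).obj P₁
  let G := (pullCx pM₂).obj P₂
  haveI := hasLpull a
  haveI := hasLTensorCx F
  let eF : DCoh.toD X F ≅ (DCoh.Lpull pX₁).obj (DCoh.toD X₁ E₁) :=
    (Pull.lpullKFIso pX₁ hP₁).symm ≪≫ (DCoh.Lpull pX₁).mapIso e₁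
  let eG : DCoh.toD M G ≅ (DCoh.Lpull pM₂).obj (DCoh.toD X₂ E₂) :=
    (Pull.lpullKFIso pM₂ hP₂).symm ≪≫ (DCoh.Lpull pM₂).mapIso e₂
  haveI : (DCoh.toD X F).IsLE b₁ := by
    haveI := isLE_lpull pX₁ (DCoh.toD X₁ E₁) b₁
    exact DerivedCategory.TStructure.t.isLE_of_iso eF.symm _
  haveI : (DCoh.toD M G).IsLE b₂ := by
    haveI := isLE_lpull pM₂ (DCoh.toD X₂ E₂) b₂
    exact DerivedCategory.TStructure.t.isLE_of_iso eG.symm _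
  have hT := isPseudoCoherentRel_tensor a b F (b := b₁) (d := b₂)
    (isPseudoCoherentRel_of_iso eF.symm h₁) _ (isPseudoCoherentRel_of_iso eG.symm h₂)
  obtain ⟨c₁⟩ := Pull.nonempty_ltensorX_iso F (isKFlat_pullback a (isKFlat_pullback pM₂ hP₂))
    (Pull.lpullKFIso a (isKFlat_pullback pM₂ hP₂)).symm (Iso.refl (DCoh.toD X F))
  obtain ⟨c₂⟩ := Pull.nonempty_ltensorX_iso K₂ (isKFlat_pullback pX₁ hP₁)
    ((Pull.lpullKFIso pX₁ hP₁).symm ≪≫ (DCoh.Lpull pX₁).mapIso e₁)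
    ((Pull.lpullKFIso pX₂ hP₂).symm ≪≫ (DCoh.Lpull pX₂).mapIso e₂ ≪≫ e.symm)
  have c₃ : (DCoh.tensorCx.obj ((pullCx a).obj G)).obj F ≅
      (DCoh.tensorCx.obj F).obj ((pullCx pX₂).obj P₂) :=
    Pull.braidX _ _ ≪≫ (DCoh.tensorCx.obj F).mapIso (Pull.pullCxCompIso a pM₂ pX₂ hap P₂)
  exact isPseudoCoherentRel_of_iso (c₁ ≪≫ DerivedCategory.Q.mapIso c₃ ≪≫ c₂.symm) hT

variable (f₁ : X₁ ⟶ Y₁) (q₁ : Y₁ ⟶ S) (f₂ : X₂ ⟶ Y₂) (q₂ : Y₂ ⟶ S)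
  [LocallyOfFiniteType f₁] [LocallyOfFiniteType f₂]
  {pX₁ : X ⟶ X₁} {pX₂ : X ⟶ X₂} (hX : IsPullback pX₁ pX₂ (f₁ ≫ q₁) (f₂ ≫ q₂))
  {pY₁ : Y ⟶ Y₁} {pY₂ : Y ⟶ Y₂} (hY : IsPullback pY₁ pY₂ q₁ q₂)
  {f : X ⟶ Y} (hf₁ : f ≫ pY₁ = pX₁ ≫ f₁) (hf₂ : f ≫ pY₂ = pX₂ ≫ f₂)
  (E₁ : CochainComplex X₁.Modules ℤ) (E₂ : CochainComplex X₂.Modules ℤ) {a₁ b₁ a₂ b₂ : ℤ}
  [DCoh.HasLpull pX₁] [DCoh.HasLpull pX₂]
  [(DCoh.toD X₁ E₁).IsLE b₁] [(DCoh.toD X₂ E₂).IsLE b₂]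
  (h₁ : DerSch.IsPseudoCoherentRel f₁ a₁ (DCoh.toD X₁ E₁))
  (h₂ : DerSch.IsPseudoCoherentRel f₂ a₂ (DCoh.toD X₂ E₂))
  (K₂ : CochainComplex X.Modules ℤ) [DCoh.HasLTensorCx K₂]
  (e : DCoh.toD X K₂ ≅ (DCoh.Lpull pX₂).obj (DCoh.toD X₂ E₂))

include hX hY hf₁ hf₂ h₁ h₂ e

/-- The external tensor product when the second factor is flat over the base. -/
theorem isPseudoCoherentRel_prod_right [Flat q₂] [Flat (f₂ ≫ q₂)] :
    DerSch.IsPseudoCoherentRel f (max (a₁ + b₂) (a₂ + b₁))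
      ((DCoh.LTensorCx K₂).obj ((DCoh.Lpull pX₁).obj (DCoh.toD X₁ E₁))) := by
  obtain ⟨M, a, b, pM₁, pM₂, s₁, s₂, hM, -, hap, rfl⟩ := Pull.exists_prod_factor f₁ q₁ f₂ q₂ hX hY hf₁ hf₂
  haveI : LocallyOfFiniteType a := MorphismProperty.of_isPullback s₁ inferInstance
  haveI : LocallyOfFiniteType b := MorphismProperty.of_isPullback s₂ inferInstance
  haveI : Flat pM₁ := MorphismProperty.of_isPullback hM.flip (inferInstanceAs (Flat (f₂ ≫ q₂)))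
  haveI := hasLpull pM₂
  rw [add_comm a₂ b₁]
  exact isPseudoCoherentRel_glue hap E₁ E₂ (isPseudoCoherentRel_flat_bc s₁ h₁)
    (isPseudoCoherentRel_bc_torIndep s₂ q₂ hY.flip h₂) K₂ e

/-- The external tensor product when the first factor is flat over the base. -/
theorem isPseudoCoherentRel_prod_left [Flat q₁] [Flat (f₁ ≫ q₁)] :
    DerSch.IsPseudoCoherentRel f (max (a₁ + b₂) (a₂ + b₁))
      ((DCoh.LTensorCx K₂).obj ((DCoh.Lpull pX₁).obj (DCoh.toD X₁ E₁))) := by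
  obtain ⟨M, a, b, pM₁, pM₂, s₁, s₂, hM, -, hap, rfl⟩ := Pull.exists_prod_factor f₁ q₁ f₂ q₂ hX hY hf₁ hf₂
  haveI : LocallyOfFiniteType a := MorphismProperty.of_isPullback s₁ inferInstance
  haveI : LocallyOfFiniteType b := MorphismProperty.of_isPullback s₂ inferInstance
  haveI : Flat pY₂ := MorphismProperty.of_isPullback hY (inferInstanceAs (Flat q₁))
  haveI := hasLpull pM₂
  rw [add_comm a₂ b₁]
  exact isPseudoCoherentRel_glue hap E₁ E₂ (isPseudoCoherentRel_bc_torIndep s₁ q₁ hM h₁)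
    (isPseudoCoherentRel_flat_bc s₂ h₂) K₂ e

omit [LocallyOfFiniteType f₁] [LocallyOfFiniteType f₂] hX hY hf₁ hf₂ h₁ h₂ in
/-- The upper bound of an external tensor product. -/
lemma isLE_prod : ((DCoh.LTensorCx K₂).obj ((DCoh.Lpull pX₁).obj (DCoh.toD X₁ E₁))).IsLE (b₁ + b₂) := by
  haveI := isLE_lpull pX₂ (DCoh.toD X₂ E₂) b₂
  rw [add_comm]
  exact Perf52.isLE_ltensorCx K₂ (DerivedCategory.TStructure.t.isLE_of_iso e.symm _)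
    (isLE_lpull pX₁ (DCoh.toD X₁ E₁) b₁)

end Groth.Agent.KSix54.TensorPC
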