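import Groth.Agent.KFlatLib.Scheme.ClosedPush
import Groth.Agent.KFlatLib.Scheme.StalkCx
import Groth.Agent.Dual349.ClosedUnit
import Groth.Agent.KSix54.Pull.BCRing

/-! Linear stalks of direct images along closed immersions. -/

set_option linter.style.haveILetI false
set_option backward.isDefEq.respectTransparency false
set_option backward.isDefEq.respectTransparency.types false

universe u

open CategoryTheory CategoryTheory.Limits AlgebraicGeometry TopologicalSpace Opposite

attribute [local instance] HasDerivedCategory.standard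

namespace Groth.Agent.KSix54.TensorPC

open Groth.Agent.KFlatLib Groth.Agent.H9Misc Groth.Agent.H9Misc.DRingLTensor

variable {V W T : Scheme.{u}} (i : V ⟶ W) [IsClosedImmersion i]

/-- The linear stalk of a direct image at a point of the image. -/
noncomputable def stalkPushLin (x : V) :
    Scheme.Modules.pushforward i ⋙ DerSch.stalkFunctor W (i.base x) ≅
      DerSch.stalkFunctor V x ⋙ ModuleCat.restrictScalars.{u} (i.stalkMap x).hom :=
  NatIso.ofComponents (fun M => (LinearEquiv.ofBijective
    (R := W.presheaf.stalk (i.base x))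
    (M := ((DerSch.stalkFunctor W (i.base x)).obj ((Scheme.Modules.pushforward i).obj M) : Type u))
    (M₂ := ((ModuleCat.restrictScalars.{u} (i.stalkMap x).hom).obj ((DerSch.stalkFunctor V x).obj M) : Type u))
    { toFun := fun m => TopCat.Presheaf.stalkPushforward Ab.{u} i.base M.presheaf x m
      map_add' := fun a b => map_add _ a b
      map_smul' := fun a m => by
        obtain ⟨U, hU, s, rfl⟩ := ((Scheme.Modules.pushforward i).obj M).presheaf.exists_germ_eq (x := i.base x) m
        obtain ⟨U', hU', r, rfl⟩ := W.presheaf.exists_germ_eq (x := i.base x) a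
        rw [← TopCat.Presheaf.germ_res_apply ((Scheme.Modules.pushforward i).obj M).presheaf
            (homOfLE inf_le_left : U ⊓ U' ⟶ U) (i.base x) ⟨hU, hU'⟩ s,
          ← TopCat.Presheaf.germ_res_apply W.presheaf (homOfLE inf_le_right : U ⊓ U' ⟶ U') (i.base x)
            ⟨hU, hU'⟩ r]
        generalize ((Scheme.Modules.pushforward i).obj M).presheaf.map
          (homOfLE inf_le_left : U ⊓ U' ⟶ U).op s = s'
        generalize W.presheaf.map (homOfLE inf_le_right : U ⊓ U' ⟶ U').op r = r'
        have h₁ := Dual349.germ_smul ((Scheme.Modules.pushforward i).obj M) (U ⊓ U') (i.base x) ⟨hU, hU'⟩ r' s'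
        rw [← h₁]
        refine (ConcreteCategory.congr_hom
          (TopCat.Presheaf.stalkPushforward_germ Ab.{u} i.base M.presheaf (U ⊓ U') x ⟨hU, hU'⟩) _).trans ?_
        refine (Dual349.germ_smul M (i ⁻¹ᵁ (U ⊓ U')) x ⟨hU, hU'⟩ (i.app _ r') s').trans ?_
        refine congrArg₂ (fun (p : V.presheaf.stalk x) (q : M.presheaf.stalk x) => p • q)
          (Scheme.Hom.germ_stalkMap_apply i _ x _ r').symm ?_
        exact (ConcreteCategory.congr_hom
          (TopCat.Presheaf.stalkPushforward_germ Ab.{u} i.base M.presheaf (U ⊓ U') x ⟨hU, hU'⟩) _).symm }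
    (ConcreteCategory.bijective_of_isIso
      (TopCat.Presheaf.stalkPushforward Ab.{u} i.base M.presheaf x))).toModuleIso)
    fun {M N} φ => ModuleCat.hom_ext (LinearMap.ext fun m =>
      ConcreteCategory.congr_hom ((stalkPushIso i x).hom.naturality φ) m)

lemma isZero_stalkFunctor_push (y : W) (hy : y ∉ Set.range i.base) (M : V.Modules) :
    IsZero ((DerSch.stalkFunctor W y).obj ((Scheme.Modules.pushforward i).obj M)) := by
  have h := isZero_stalk_push i y hy M
  rw [AddCommGrpCat.isZero_iff_subsingleton] at h
  haveI : Subsingleton (((DerSch.stalkFunctor W y).obj ((Scheme.Modules.pushforward i).obj M)) : Type u) := h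
  exact ModuleCat.isZero_of_subsingleton _

lemma isKF_of_isZero {R : Type u} [CommRing R] {M : DRing.Cx R} (h : ∀ j, IsZero (M.X j)) : IsKF M :=
  DRingTor.isKF_of_flat (b := 0) (fun j => Pull.flat_of_isZero _ (h j)) fun j _ => h j

/-- Direct images of K-flat complexes are K-flat over a base over which the source is flat. -/
theorem isKF_stalk_push (π : W ⟶ T) [Flat (i ≫ π)] {G : CochainComplex V.Modules ℤ} (hG : DCoh.IsKFlat G)
    (y : W) :
    IsKF ((DTen.resCx (π.stalkMap y).hom).obj
      ((stalkCx y).obj (((Scheme.Modules.pushforward i).mapHomologicalComplex (ComplexShape.up ℤ)).obj G))) := by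
  by_cases hy : y ∈ Set.range i.base
  · obtain ⟨x, rfl⟩ := hy
    let S₀ := (stalkCx x).obj G
    have h1 : IsKF ((DTen.resCx ((i ≫ π).stalkMap x).hom).obj S₀) :=
      Pull.isKF_restrict_of_flat (Flat.stalkMap (i ≫ π) _) ((kFlat_iff_stalk G).1 hG x)
    refine KFlat.of_iso ?_ h1
    let e₁ : (DTen.resCx ((i ≫ π).stalkMap x).hom).obj S₀ ≅
        (DTen.resCx (π.stalkMap (i.base x)).hom).obj ((DTen.resCx (i.stalkMap x).hom).obj S₀) :=
      HomologicalComplex.Hom.isoOfComponents
      (fun j => (ModuleCat.restrictScalarsComp' (π.stalkMap (i.base x)).hom (i.stalkMap x).hom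
        ((i ≫ π).stalkMap x).hom (congrArg CommRingCat.Hom.hom (Scheme.Hom.stalkMap_comp i π x))).app (S₀.X j))
      fun j k _ => ((ModuleCat.restrictScalarsComp' (π.stalkMap (i.base x)).hom (i.stalkMap x).hom
        ((i ≫ π).stalkMap x).hom (congrArg CommRingCat.Hom.hom (Scheme.Hom.stalkMap_comp i π x))).hom.naturality
          (S₀.d j k)).symm
    refine e₁ ≪≫ (DTen.resCx (π.stalkMap (i.base x)).hom).mapIso ?_
    exact HomologicalComplex.Hom.isoOfComponents (fun j => ((stalkPushLin i x).app (G.X j)).symm)
      fun j k _ => ((stalkPushLin i x).inv.naturality (G.d j k)).symm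
  · exact isKF_of_isZero fun j =>
      (ModuleCat.restrictScalars (π.stalkMap y).hom).map_isZero (isZero_stalkFunctor_push i y hy (G.X j))

end Groth.Agent.KSix54.TensorPC
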